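import Mathlib
import Cfsg.Agent.Lib.helper20.Wielandt
import Cfsg.Agent.Lib.helper25.K4237c
import Cfsg.Agent.Lib.helper25.K4237d

set_option autoImplicit false

namespace Cfsg.Agent.Lib.helper17.K4237

open scoped Pointwise


theorem sum_card_filter_comm {α β : Type*} (U : Finset α) (T : Finset β) (R : β → α → Prop)
    [∀ t M, Decidable (R t M)] :
    ∑ M ∈ U, (T.filter (fun t => R t M)).card = ∑ t ∈ T, (U.filter (fun M => R t M)).card := by
  simp_rw [Finset.card_filter]
  exact Finset.sum_comm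

theorem wielandt_sq {G : Type*} [Group G] [Finite G] (p c L : ℕ) (hp : p.Prime)
    (hG : Nat.card G = p ^ (c + 1) * L) :
    ∃ r : ℕ, (Nat.card G).choose (p ^ (c + 1)) +
        L * Nat.card {x : Subgroup G × Subgroup G // x.1 ≤ x.2 ∧ Nat.card x.1 = p ^ c ∧
          Nat.card x.2 = p ^ (c + 1)} =
      L * Nat.card {Q : Subgroup G // Nat.card Q = p ^ (c + 1)} +
      (p * L).choose p * Nat.card {S : Subgroup G // Nat.card S = p ^ c} + p ^ 2 * L * r := by
  classical
  have : Fintype G := Fintype.ofFinite G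
  have : Fintype (Subgroup G) := Fintype.ofFinite _
  have hnpos : 0 < p ^ (c + 1) := pow_pos hp.pos _
  have hpc : 0 < p ^ c := pow_pos hp.pos _
  set U : Finset (Finset G) := Finset.powersetCard (p ^ (c + 1)) Finset.univ with hU
  set SS : Finset (Subgroup G) := Finset.univ.filter (fun S => Nat.card S = p ^ c) with hSS
  set QQ : Finset (Subgroup G) := Finset.univ.filter (fun Q => Nat.card Q = p ^ (c + 1)) with hQQ
  set PP : Finset (Subgroup G × Subgroup G) :=
    Finset.univ.filter (fun x => x.1 ≤ x.2 ∧ Nat.card x.1 = p ^ c ∧ Nat.card x.2 = p ^ (c + 1))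
    with hPP
  have hUcard : U.card = (Nat.card G).choose (p ^ (c + 1)) := by
    rw [hU, Finset.card_powersetCard, Finset.card_univ, Nat.card_eq_fintype_card]
  have hmemU : ∀ M : Finset G, M ∈ U ↔ M.card = p ^ (c + 1) := by
    intro M; rw [hU, Finset.mem_powersetCard]; simp
  have hmemSS : ∀ S : Subgroup G, S ∈ SS ↔ Nat.card S = p ^ c := by
    intro S; rw [hSS]; simp
  have hmemQQ : ∀ Q : Subgroup G, Q ∈ QQ ↔ Nat.card Q = p ^ (c + 1) := by
    intro Q; rw [hQQ]; simp
  have hmemPP : ∀ x : Subgroup G × Subgroup G, x ∈ PP ↔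
      (x.1 ≤ x.2 ∧ Nat.card x.1 = p ^ c ∧ Nat.card x.2 = p ^ (c + 1)) := by
    intro x; rw [hPP]; simp
  have hle_iff : ∀ (S : Subgroup G) (M : Finset G),
      S ≤ MulAction.stabilizer G M ↔ ∀ g ∈ S, ∀ x ∈ M, g * x ∈ M := by
    intro S M
    constructor
    · intro h g hg x hx
      exact MulAction.mem_stabilizer_finset'.mp (h hg) hx
    · intro h g hg
      exact MulAction.mem_stabilizer_finset'.mpr (fun x hx => h g hg x hx)
  have hdvd : ∀ M ∈ U, Nat.card (MulAction.stabilizer G M) ∣ p ^ (c + 1) := by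
    intro M hM
    have := Cfsg.Agent.Lib.helper20.card_stabilizer_dvd_ncard ((M : Finset G) : Set G)
    rw [MulAction.stabilizer_coe_finset, Set.ncard_coe_finset, (hmemU M).mp hM] at this
    exact this
  have hinv : ∀ (S : Subgroup G) (m : ℕ), m * Nat.card S = p ^ (c + 1) →
      (U.filter (fun M => S ≤ MulAction.stabilizer G M)).card =
        (Nat.card G / Nat.card S).choose m := by
    intro S m hm
    rw [← Cfsg.Agent.Lib.helper25.K4237c.card_invariant_finsets S m, Nat.card_eq_fintype_card, Fintype.card_subtype]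
    congr 1
    ext M
    simp only [Finset.mem_filter, Finset.mem_univ, true_and, hmemU, hle_iff, hm]
  have h1 : ∀ S ∈ SS, (U.filter (fun M => S ≤ MulAction.stabilizer G M)).card =
      (p * L).choose p := by
    intro S hS
    have hSc : Nat.card S = p ^ c := (hmemSS S).mp hS
    rw [hinv S p (by rw [hSc, pow_succ']), hSc, hG]
    congr 1
    rw [pow_succ, mul_assoc]
    exact Nat.mul_div_cancel_left _ hpc
  have h2 : ∀ Q ∈ QQ, (U.filter (fun M => Q ≤ MulAction.stabilizer G M)).card = L := by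
    intro Q hQ
    have hQc : Nat.card Q = p ^ (c + 1) := (hmemQQ Q).mp hQ
    rw [hinv Q 1 (by rw [hQc, one_mul]), hQc, hG, Nat.mul_div_cancel_left _ hnpos,
      Nat.choose_one_right]
  have hpt : ∀ M ∈ U, 1 + (PP.filter (fun x => x.2 ≤ MulAction.stabilizer G M)).card =
      (SS.filter (fun S => S ≤ MulAction.stabilizer G M)).card +
      (QQ.filter (fun Q => Q ≤ MulAction.stabilizer G M)).card +
      (if ¬ p ^ c ∣ Nat.card (MulAction.stabilizer G M) then 1 else 0) := by
    intro M hM
    obtain ⟨j, hj, hjeq⟩ := (Nat.dvd_prime_pow hp).mp (hdvd M hM)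
    have hsub : ∀ T : Subgroup G, T ≤ MulAction.stabilizer G M → Nat.card T ∣ p ^ j := by
      intro T hT; rw [← hjeq]; exact Subgroup.card_dvd_of_le hT
    have hpow : ∀ i, p ^ i ∣ p ^ j → i ≤ j :=
      fun i h => (Nat.pow_dvd_pow_iff_le_right hp.one_lt).mp h
    rcases Nat.lt_or_ge c j with hgt | hle
    · -- top
      have hjc : j = c + 1 := by omega
      have hStn : Nat.card (MulAction.stabilizer G M) = p ^ (c + 1) := by rw [hjeq, hjc]
      have hb : QQ.filter (fun Q => Q ≤ MulAction.stabilizer G M) = {MulAction.stabilizer G M} := by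
        ext Q
        rw [Finset.mem_filter, Finset.mem_singleton, hmemQQ]
        constructor
        · rintro ⟨hQc, hle⟩
          exact Subgroup.eq_of_le_of_card_ge hle (by rw [hQc, hStn])
        · rintro rfl; exact ⟨hStn, le_refl _⟩
      have hc' : (PP.filter (fun x => x.2 ≤ MulAction.stabilizer G M)).card =
          (SS.filter (fun S => S ≤ MulAction.stabilizer G M)).card := by
        apply Finset.card_bij (fun x _ => x.1)
        · intro x hx
          rw [Finset.mem_filter, hmemPP] at hx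
          rw [Finset.mem_filter, hmemSS]
          exact ⟨hx.1.2.1, hx.1.1.trans hx.2⟩
        · intro x hx y hy hxy
          rw [Finset.mem_filter, hmemPP] at hx hy
          have e1 : x.2 = MulAction.stabilizer G M :=
            Subgroup.eq_of_le_of_card_ge hx.2 (by rw [hx.1.2.2, hStn])
          have e2 : y.2 = MulAction.stabilizer G M :=
            Subgroup.eq_of_le_of_card_ge hy.2 (by rw [hy.1.2.2, hStn])
          exact Prod.ext hxy (e1.trans e2.symm)
        · intro S hS
          rw [Finset.mem_filter, hmemSS] at hS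
          refine ⟨(S, MulAction.stabilizer G M), ?_, rfl⟩
          rw [Finset.mem_filter, hmemPP]
          exact ⟨⟨hS.2, hS.1, hStn⟩, le_refl _⟩
      have hnl : ¬ ¬ p ^ c ∣ Nat.card (MulAction.stabilizer G M) := by
        rw [not_not, hjeq]; exact pow_dvd_pow p (by omega)
      rw [hb, hc', if_neg hnl, Finset.card_singleton]
      omega
    · have hb : QQ.filter (fun Q => Q ≤ MulAction.stabilizer G M) = ∅ := by
        apply Finset.filter_eq_empty_iff.mpr
        intro Q hQ hQle
        have h3 := hsub Q hQle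
        rw [(hmemQQ Q).mp hQ] at h3
        have := hpow (c + 1) h3
        omega
      have hc' : PP.filter (fun x => x.2 ≤ MulAction.stabilizer G M) = ∅ := by
        apply Finset.filter_eq_empty_iff.mpr
        intro x hx hxle
        have h3 := hsub x.2 hxle
        rw [((hmemPP x).mp hx).2.2] at h3
        have := hpow (c + 1) h3
        omega
      rcases Nat.lt_or_ge j c with hlt | hge
      · -- low
        have hlow : ¬ p ^ c ∣ Nat.card (MulAction.stabilizer G M) := by
          rw [hjeq]; intro h; have := hpow c h; omega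
        have ha : SS.filter (fun S => S ≤ MulAction.stabilizer G M) = ∅ := by
          apply Finset.filter_eq_empty_iff.mpr
          intro S hS hSle
          have h3 := hsub S hSle
          rw [(hmemSS S).mp hS] at h3
          have := hpow c h3
          omega
        rw [ha, hb, hc', if_pos hlow]
        simp
      · -- mid
        have hjc : j = c := by omega
        have hStc : Nat.card (MulAction.stabilizer G M) = p ^ c := by rw [hjeq, hjc]
        have ha : SS.filter (fun S => S ≤ MulAction.stabilizer G M) =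
            {MulAction.stabilizer G M} := by
          ext S
          rw [Finset.mem_filter, Finset.mem_singleton, hmemSS]
          constructor
          · rintro ⟨hSc, hle⟩
            exact Subgroup.eq_of_le_of_card_ge hle (by rw [hSc, hStc])
          · rintro rfl; exact ⟨hStc, le_refl _⟩
        have hnl : ¬ ¬ p ^ c ∣ Nat.card (MulAction.stabilizer G M) := by
          rw [not_not, hStc]
        rw [ha, hb, hc', if_neg hnl]
        simp
  have hsum := Finset.sum_congr (rfl : U = U) hpt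
  rw [Finset.sum_add_distrib, Finset.sum_add_distrib, Finset.sum_add_distrib,
    Finset.sum_const, smul_eq_mul, mul_one,
    sum_card_filter_comm U PP (fun x M => x.2 ≤ MulAction.stabilizer G M),
    sum_card_filter_comm U SS (fun S M => S ≤ MulAction.stabilizer G M),
    sum_card_filter_comm U QQ (fun Q M => Q ≤ MulAction.stabilizer G M)] at hsum
  have ePP : ∑ x ∈ PP, (U.filter (fun M => x.2 ≤ MulAction.stabilizer G M)).card = PP.card * L := by
    apply Finset.sum_const_nat
    intro x hx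
    exact h2 x.2 ((hmemQQ x.2).mpr ((hmemPP x).mp hx).2.2)
  have eSS : ∑ S ∈ SS, (U.filter (fun M => S ≤ MulAction.stabilizer G M)).card =
      SS.card * (p * L).choose p := Finset.sum_const_nat h1
  have eQQ : ∑ Q ∈ QQ, (U.filter (fun M => Q ≤ MulAction.stabilizer G M)).card = QQ.card * L :=
    Finset.sum_const_nat h2
  have elow : ∑ M ∈ U, (if ¬ p ^ c ∣ Nat.card (MulAction.stabilizer G M) then 1 else 0) =
      (U.filter (fun M => ¬ p ^ c ∣ Nat.card (MulAction.stabilizer G M))).card :=
    (Finset.card_filter _ _).symm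
  have hdiv : p ^ 2 * L ∣
      (U.filter (fun M => ¬ p ^ c ∣ Nat.card (MulAction.stabilizer G M))).card := by
    have key := Cfsg.Agent.Lib.helper25.K4237d.dvd_card_of_forall_dvd (G := G) (X := Finset G)
      (fun M => M ∈ U ∧ ¬ p ^ c ∣ Nat.card (MulAction.stabilizer G M)) ?_ (p ^ 2 * L) ?_
    · rw [Nat.card_eq_fintype_card, Fintype.card_subtype] at key
      convert key using 2
      ext M; simp
    · rintro g M ⟨hM, hlow⟩
      refine ⟨?_, ?_⟩
      · rw [hmemU] at hM ⊢; rw [Finset.card_smul_finset]; exact hM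
      · rw [MulAction.stabilizer_smul_eq_stabilizer_map_conj,
          Subgroup.card_map_of_injective (show Function.Injective (MulAut.conj g).toMonoidHom
            from (MulAut.conj g).injective)]
        exact hlow
    · rintro M ⟨hM, hlow⟩
      obtain ⟨j, hj, hjeq⟩ := (Nat.dvd_prime_pow hp).mp (hdvd M hM)
      have hjc : j < c := by
        by_contra h
        apply hlow; rw [hjeq]; exact pow_dvd_pow p (by omega)
      rw [hjeq, hG]
      obtain ⟨d, hd⟩ : ∃ d, c + 1 = j + (d + 2) := ⟨c - j - 1, by omega⟩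
      have e : p ^ (c + 1) * L = p ^ j * (p ^ d * (p ^ 2 * L)) := by
        rw [hd, pow_add, pow_add]; ring
      rw [e, Nat.mul_div_cancel_left _ (pow_pos hp.pos j)]
      exact dvd_mul_left _ _
  obtain ⟨r, hr⟩ := hdiv
  refine ⟨r, ?_⟩
  have cPP : Nat.card {x : Subgroup G × Subgroup G // x.1 ≤ x.2 ∧ Nat.card x.1 = p ^ c ∧
      Nat.card x.2 = p ^ (c + 1)} = PP.card := by
    rw [Nat.card_eq_fintype_card, Fintype.card_subtype]
  have cQQ : Nat.card {Q : Subgroup G // Nat.card Q = p ^ (c + 1)} = QQ.card := by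
    rw [Nat.card_eq_fintype_card, Fintype.card_subtype]
  have cSS : Nat.card {S : Subgroup G // Nat.card S = p ^ c} = SS.card := by
    rw [Nat.card_eq_fintype_card, Fintype.card_subtype]
  rw [cPP, cQQ, cSS, ← hUcard]
  rw [ePP, eSS, eQQ, elow, hr] at hsum
  linarith

theorem card_subgroups_cyclic_eq_one {C : Type*} [Group C] [Finite C] [IsCyclic C] (p b : ℕ)
    (hp : p.Prime) (h : p ^ b ∣ Nat.card C) :
    Nat.card {H : Subgroup C // Nat.card H = p ^ b} = 1 := by
  have : Fact p.Prime := ⟨hp⟩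
  rw [Nat.card_eq_one_iff_unique]
  constructor
  · constructor
    rintro ⟨H, hH⟩ ⟨H', hH'⟩
    apply Subtype.ext
    exact Cfsg.Agent.Lib.helper20.eq_of_card_eq_of_isCyclic H H' (hH.trans hH'.symm)
  · obtain ⟨K, hK⟩ := Sylow.exists_subgroup_card_pow_prime (G := C) p (n := b) h
    exact ⟨⟨K, hK⟩⟩

theorem choose_facts (p L : ℕ) (hp : p.Prime) (hL : L ≠ 0) :
    (p * L).choose p = L * (p * L - 1).choose (p - 1) ∧
    (p * L - 1).choose (p - 1) ≡ 1 [MOD p] := by
  have hppos := hp.pos
  have hLpos : 0 < L := Nat.pos_of_ne_zero hL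
  have hpL : 0 < p * L := Nat.mul_pos hppos hLpos
  constructor
  · have h := Nat.add_one_mul_choose_eq (p * L - 1) (p - 1)
    rw [Nat.sub_add_cancel hpL, Nat.sub_add_cancel hppos] at h
    apply Nat.eq_of_mul_eq_mul_right hppos
    rw [← h]; ring
  · have : Fact p.Prime := ⟨hp⟩
    have h := Choose.choose_modEq_choose_mod_mul_choose_div_nat (n := p * L - 1) (k := p - 1) (p := p)
    have hx : p * L - 1 = (p - 1) + p * (L - 1) := by
      have : p * L = p * (L - 1) + p := by
        rw [← Nat.mul_succ]; congr 1; omega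
      omega
    have e1 : (p * L - 1) % p = p - 1 := by
      rw [hx, Nat.add_mul_mod_self_left]; exact Nat.mod_eq_of_lt (by omega)
    have e2 : (p * L - 1) / p = L - 1 := by
      rw [hx, Nat.add_mul_div_left _ _ hppos, Nat.div_eq_of_lt (by omega), zero_add]
    have e3 : (p - 1) % p = p - 1 := Nat.mod_eq_of_lt (by omega)
    have e4 : (p - 1) / p = 0 := Nat.div_eq_of_lt (by omega)
    rw [e1, e2, e3, e4, Nat.choose_self, Nat.choose_zero_right, mul_one] at h
    exact h

theorem main_of {G : Type*} [Group G] [Finite G] (p a : ℕ) (hp : p.Prime) (L : ℕ)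
    (hL : Nat.card G = p ^ (a + 1) * L)
    (m1 : Nat.card {x : Subgroup G × Subgroup G // x.1 ≤ x.2 ∧ Nat.card x.1 = p ^ a ∧
        Nat.card x.2 = p ^ (a + 1)} ≡
      Nat.card {Q : Subgroup G // Nat.card Q = p ^ (a + 1)} +
        p * Nat.card {Q : Subgroup G // Nat.card Q = p ^ (a + 1) ∧ ¬ IsCyclic Q} [MOD p ^ 2])
    (m2 : Nat.card {x : Subgroup (Multiplicative (ZMod (p ^ (a + 1) * L))) ×
        Subgroup (Multiplicative (ZMod (p ^ (a + 1) * L))) // x.1 ≤ x.2 ∧ Nat.card x.1 = p ^ a ∧
        Nat.card x.2 = p ^ (a + 1)} ≡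
      Nat.card {Q : Subgroup (Multiplicative (ZMod (p ^ (a + 1) * L))) //
          Nat.card Q = p ^ (a + 1)} +
        p * Nat.card {Q : Subgroup (Multiplicative (ZMod (p ^ (a + 1) * L))) //
          Nat.card Q = p ^ (a + 1) ∧ ¬ IsCyclic Q} [MOD p ^ 2])
    (hnc : Nat.card {H : Subgroup G // Nat.card H = p ^ (a + 1) ∧ ¬ IsCyclic H} % p = 0 ∨
      Nat.card {H : Subgroup G // Nat.card H = p ^ (a + 1) ∧ ¬ IsCyclic H} % p = 1) :
    Nat.card {H : Subgroup G // Nat.card H = p ^ a} ≡ 1 [MOD p ^ 2] ∨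
    Nat.card {H : Subgroup G // Nat.card H = p ^ a} ≡ 1 + p [MOD p ^ 2] := by
  have hfrob : Nat.card {H : Subgroup G // Nat.card H = p ^ a} ≡ 1 [MOD p] :=
    Cfsg.Agent.Lib.helper20.card_subgroups_modEq_one p a hp
      ((pow_dvd_pow p (Nat.le_succ a)).trans ⟨L, hL⟩)
  have hL0 : L ≠ 0 := by
    rintro rfl; rw [mul_zero] at hL; exact (Nat.card_pos (α := G)).ne' hL
  have : NeZero (p ^ (a + 1) * L) := ⟨by rw [← hL]; exact (Nat.card_pos (α := G)).ne'⟩
  have hC : Nat.card (Multiplicative (ZMod (p ^ (a + 1) * L))) = p ^ (a + 1) * L := by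
    rw [Nat.card_eq_fintype_card, Fintype.card_multiplicative, ZMod.card]
  obtain ⟨r, e1⟩ := wielandt_sq (G := G) p a L hp hL
  obtain ⟨r', e2⟩ := wielandt_sq (G := Multiplicative (ZMod (p ^ (a + 1) * L))) p a L hp hC
  have c1 := card_subgroups_cyclic_eq_one (C := Multiplicative (ZMod (p ^ (a + 1) * L))) p (a + 1)
    hp (by rw [hC]; exact dvd_mul_right _ _)
  have c0 := card_subgroups_cyclic_eq_one (C := Multiplicative (ZMod (p ^ (a + 1) * L))) p a
    hp (by rw [hC]; exact (pow_dvd_pow p (Nat.le_succ a)).trans (dvd_mul_right _ _))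
  have cnc : Nat.card {Q : Subgroup (Multiplicative (ZMod (p ^ (a + 1) * L))) //
      Nat.card Q = p ^ (a + 1) ∧ ¬ IsCyclic Q} = 0 := by
    have : IsEmpty {Q : Subgroup (Multiplicative (ZMod (p ^ (a + 1) * L))) //
        Nat.card Q = p ^ (a + 1) ∧ ¬ IsCyclic Q} := ⟨fun ⟨Q, _, hQ⟩ => hQ inferInstance⟩
    exact Nat.card_of_isEmpty
  rw [c1, cnc, mul_zero, add_zero] at m2
  rw [c1, c0, hC] at e2
  rw [hL] at e1
  obtain ⟨hB, hB1⟩ := choose_facts p L hp hL0
  rw [hB] at e1 e2
  generalize Nat.card {x : Subgroup G × Subgroup G // x.1 ≤ x.2 ∧ Nat.card x.1 = p ^ a ∧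
          Nat.card x.2 = p ^ (a + 1)} = Pi0 at e1 m1
  generalize Nat.card {x : Subgroup (Multiplicative (ZMod (p ^ (a + 1) * L))) ×
      Subgroup (Multiplicative (ZMod (p ^ (a + 1) * L))) // x.1 ≤ x.2 ∧ Nat.card x.1 = p ^ a ∧
          Nat.card x.2 = p ^ (a + 1)} = Pi1 at e2 m2
  generalize Nat.card {Q : Subgroup G // Nat.card Q = p ^ (a + 1) ∧ ¬ IsCyclic Q} = nc at m1 hnc
  generalize Nat.card {Q : Subgroup G // Nat.card Q = p ^ (a + 1)} = n1 at e1 m1
  generalize Nat.card {H : Subgroup G // Nat.card H = p ^ a} = n0 at e1 hfrob ⊢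
  generalize (p * L - 1).choose (p - 1) = B at e1 e2 hB1
  generalize (p ^ (a + 1) * L).choose (p ^ (a + 1)) = X at e1 e2
  obtain ⟨k3, hk3⟩ := Nat.modEq_iff_dvd.mp m1
  obtain ⟨k4, hk4⟩ := Nat.modEq_iff_dvd.mp m2
  obtain ⟨k5, hk5⟩ := Nat.modEq_iff_dvd.mp hB1
  obtain ⟨k6, hk6⟩ := Nat.modEq_iff_dvd.mp hfrob
  push_cast at hk3 hk4 hk5 hk6
  have e1' : (X : ℤ) + L * Pi0 = L * n1 + L * B * n0 + p ^ 2 * L * r := by exact_mod_cast e1
  have e2' : (X : ℤ) + L * Pi1 = L * 1 + L * B * 1 + p ^ 2 * L * r' := by exact_mod_cast e2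
  have ePi0 : (Pi0 : ℤ) = n1 + p * nc - p ^ 2 * k3 := by linarith
  have ePi1 : (Pi1 : ℤ) = 1 - p ^ 2 * k4 := by linarith
  have en0 : (n0 : ℤ) = 1 - p * k6 := by linarith
  have eB : (B : ℤ) = 1 - p * k5 := by linarith
  rw [ePi0, en0, eB] at e1'
  rw [ePi1, eB] at e2'
  have hD : (L : ℤ) * ((p : ℤ) * ((nc : ℤ) + k6 - p * (k3 - k4 + k5 * k6 + r - r'))) = 0 := by
    linear_combination e1' - e2'
  have hLz : (L : ℤ) ≠ 0 := by exact_mod_cast hL0
  have hpz : (p : ℤ) ≠ 0 := by exact_mod_cast hp.ne_zero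
  have hD2 : (nc : ℤ) + k6 - p * (k3 - k4 + k5 * k6 + r - r') = 0 := by
    rcases mul_eq_zero.mp hD with h | h
    · exact absurd h hLz
    · rcases mul_eq_zero.mp h with h | h
      · exact absurd h hpz
      · exact h
  obtain ⟨u, hu⟩ : ∃ u : ℕ, nc = p * u + nc % p := ⟨nc / p, (Nat.div_add_mod nc p).symm⟩
  rcases hnc with h0 | h1
  · left
    rw [h0] at hu
    have hdm' : (nc : ℤ) = p * u := by exact_mod_cast hu
    apply Nat.modEq_iff_dvd.mpr
    refine ⟨(k3 - k4 + k5 * k6 + r - r') - u, ?_⟩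
    push_cast
    linear_combination (p : ℤ) * hD2 - en0 - (p : ℤ) * hdm'
  · right
    rw [h1] at hu
    have hdm' : (nc : ℤ) = p * u + 1 := by exact_mod_cast hu
    apply Nat.modEq_iff_dvd.mpr
    refine ⟨(k3 - k4 + k5 * k6 + r - r') - u, ?_⟩
    push_cast
    linear_combination (p : ℤ) * hD2 - en0 - (p : ℤ) * hdm'

end Cfsg.Agent.Lib.helper17.K4237
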