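import Mathlib
import Cfsg.Agent.Lib.helper17.K4237
import Cfsg.Agent.Lib.lead.K4237a

set_option autoImplicit false

namespace Cfsg.Agent.Lib.helper17.K4237

/-- Refined Frobenius count: if `p ^ (a + 1)` divides `|G|`, the number of subgroups of order
`p ^ a` is `1 + p * #(noncyclic subgroups of order p ^ (a + 1))` modulo `p ^ 2`. -/
theorem card_subgroups_modEq_succ {G : Type*} [Group G] [Finite G] (p a : ℕ) (hp : p.Prime)
    (hdvd : p ^ (a + 1) ∣ Nat.card G) :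
    Nat.card {H : Subgroup G // Nat.card H = p ^ a} ≡
      1 + p * Nat.card {H : Subgroup G // Nat.card H = p ^ (a + 1) ∧ ¬ IsCyclic H} [MOD p ^ 2] := by
  obtain ⟨L, hL⟩ := hdvd
  have m1 := Cfsg.Agent.Lib.lead.K4237a.card_pairs_modEq (G := G) p a hp
  have hfrob : Nat.card {H : Subgroup G // Nat.card H = p ^ a} ≡ 1 [MOD p] :=
    Cfsg.Agent.Lib.helper20.card_subgroups_modEq_one p a hp
      ((pow_dvd_pow p (Nat.le_succ a)).trans ⟨L, hL⟩)
  have hL0 : L ≠ 0 := by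
    rintro rfl; rw [mul_zero] at hL; exact (Nat.card_pos (α := G)).ne' hL
  have : NeZero (p ^ (a + 1) * L) := ⟨by rw [← hL]; exact (Nat.card_pos (α := G)).ne'⟩
  have m2 := Cfsg.Agent.Lib.lead.K4237a.card_pairs_modEq
    (G := Multiplicative (ZMod (p ^ (a + 1) * L))) p a hp
  have hC : Nat.card (Multiplicative (ZMod (p ^ (a + 1) * L))) = p ^ (a + 1) * L := by
    rw [Nat.card_eq_fintype_card, Fintype.card_multiplicative, ZMod.card]
  obtain ⟨r, e1⟩ := wielandt_sq (G := G) p a L hp hL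
  obtain ⟨r', e2⟩ := wielandt_sq (G := Multiplicative (ZMod (p ^ (a + 1) * L))) p a L hp hC
  have c1 := card_subgroups_cyclic_eq_one (C := Multiplicative (ZMod (p ^ (a + 1) * L))) p (a + 1)
    hp (by rw [hC]; exact dvd_mul_right _ _)
  have c0 := card_subgroups_cyclic_eq_one (C := Multiplicative (ZMod (p ^ (a + 1) * L))) p a
    hp (by rw [hC]; exact (pow_dvd_pow p (Nat.le_succ a)).trans (dvd_mul_right _ _))
  have cnc : Nat.card {Q : Subgroup (Multiplicative (ZMod (p ^ (a + 1) * L))) //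
      Nat.card Q = p ^ (a + 1) ∧ ¬ IsCyclic Q} = 0 := by
    have : IsEmpty {Q : Subgroup (Multiplicative (ZMod (p ^ (a + 1) * L))) //
        Nat.card Q = p ^ (a + 1) ∧ ¬ IsCyclic Q} := ⟨fun ⟨Q, _, hQ⟩ => hQ inferInstance⟩
    exact Nat.card_of_isEmpty
  rw [c1, cnc, mul_zero, add_zero] at m2
  rw [c1, c0, hC] at e2
  rw [hL] at e1
  obtain ⟨hB, hB1⟩ := choose_facts p L hp hL0
  rw [hB] at e1 e2
  generalize Nat.card {x : Subgroup G × Subgroup G // x.1 ≤ x.2 ∧ Nat.card x.1 = p ^ a ∧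
          Nat.card x.2 = p ^ (a + 1)} = Pi0 at e1 m1
  generalize Nat.card {x : Subgroup (Multiplicative (ZMod (p ^ (a + 1) * L))) ×
      Subgroup (Multiplicative (ZMod (p ^ (a + 1) * L))) // x.1 ≤ x.2 ∧ Nat.card x.1 = p ^ a ∧
          Nat.card x.2 = p ^ (a + 1)} = Pi1 at e2 m2
  generalize Nat.card {Q : Subgroup G // Nat.card Q = p ^ (a + 1) ∧ ¬ IsCyclic Q} = nc at m1 ⊢
  generalize Nat.card {Q : Subgroup G // Nat.card Q = p ^ (a + 1)} = n1 at e1 m1
  generalize Nat.card {H : Subgroup G // Nat.card H = p ^ a} = n0 at e1 hfrob ⊢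
  generalize (p * L - 1).choose (p - 1) = B at e1 e2 hB1
  generalize (p ^ (a + 1) * L).choose (p ^ (a + 1)) = X at e1 e2
  obtain ⟨k3, hk3⟩ := Nat.modEq_iff_dvd.mp m1
  obtain ⟨k4, hk4⟩ := Nat.modEq_iff_dvd.mp m2
  obtain ⟨k5, hk5⟩ := Nat.modEq_iff_dvd.mp hB1
  obtain ⟨k6, hk6⟩ := Nat.modEq_iff_dvd.mp hfrob
  push_cast at hk3 hk4 hk5 hk6
  have e1' : (X : ℤ) + L * Pi0 = L * n1 + L * B * n0 + p ^ 2 * L * r := by exact_mod_cast e1
  have e2' : (X : ℤ) + L * Pi1 = L * 1 + L * B * 1 + p ^ 2 * L * r' := by exact_mod_cast e2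
  have ePi0 : (Pi0 : ℤ) = n1 + p * nc - p ^ 2 * k3 := by linarith
  have ePi1 : (Pi1 : ℤ) = 1 - p ^ 2 * k4 := by linarith
  have en0 : (n0 : ℤ) = 1 - p * k6 := by linarith
  have eB : (B : ℤ) = 1 - p * k5 := by linarith
  rw [ePi0, en0, eB] at e1'
  rw [ePi1, eB] at e2'
  have hD : (L : ℤ) * ((p : ℤ) * ((nc : ℤ) + k6 - p * (k3 - k4 + k5 * k6 + r - r'))) = 0 := by
    linear_combination e1' - e2'
  have hLz : (L : ℤ) ≠ 0 := by exact_mod_cast hL0
  have hpz : (p : ℤ) ≠ 0 := by exact_mod_cast hp.ne_zero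
  have hD2 : (nc : ℤ) + k6 - p * (k3 - k4 + k5 * k6 + r - r') = 0 := by
    rcases mul_eq_zero.mp hD with h | h
    · exact absurd h hLz
    · rcases mul_eq_zero.mp h with h | h
      · exact absurd h hpz
      · exact h
  apply Nat.modEq_iff_dvd.mpr
  refine ⟨k3 - k4 + k5 * k6 + r - r', ?_⟩
  push_cast
  linear_combination (p : ℤ) * hD2 - en0

end Cfsg.Agent.Lib.helper17.K4237
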