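import Mathlib
import Cfsg.Prelude.Def_Classical
import Cfsg.Agent.Lib.helper17.SL33
import Cfsg.Agent.Lib.helper17.U33

set_option autoImplicit false

namespace Cfsg.Agent.Lib.helper17.U32

open Cfsg.Agent.Lib.helper17.SL33
open Cfsg.Agent.Lib.helper17.U33 (slEquiv3 slEquiv3_apply M3.mul_def M3.one_def)

/-! ### the field with four elements -/

/-- the field with four elements, `F₂[w]` with `w² = w + 1`; `⟨a, b⟩` is `a + b w` -/
structure F4 where
  re : Bool
  im : Bool
  deriving DecidableEq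

namespace F4

instance instFintype : Fintype F4 where
  elems := ⟨(([⟨false, false⟩, ⟨true, false⟩, ⟨false, true⟩, ⟨true, true⟩] : List F4) :
    Multiset F4), by decide⟩
  complete := by rintro ⟨a | a, b | b⟩ <;> decide

instance instAdd : Add F4 := ⟨fun x y => ⟨xor x.re y.re, xor x.im y.im⟩⟩
instance instMul : Mul F4 :=
  ⟨fun x y => ⟨xor (x.re && y.re) (x.im && y.im),
    xor (xor (x.re && y.im) (x.im && y.re)) (x.im && y.im)⟩⟩
instance instNeg : Neg F4 := ⟨fun x => x⟩
instance instZero : Zero F4 := ⟨⟨false, false⟩⟩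
instance instOne : One F4 := ⟨⟨true, false⟩⟩

instance instCommRing : CommRing F4 :=
  CommRing.ofMinimalAxioms (by decide) (by decide) (by decide) (by decide) (by decide) (by decide)
    (by decide)

instance instInv : Inv F4 := ⟨fun x => x * x⟩

instance instField : Field F4 where
  exists_pair_ne := ⟨0, 1, by decide⟩
  mul_inv_cancel := by decide
  inv_zero := by decide
  nnqsmul := _
  nnqsmul_def := fun _ _ => rfl
  qsmul := _
  qsmul_def := fun _ _ => rfl

theorem card : Fintype.card F4 = 4 := by decide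

theorem two_eq_zero : (2 : F4) = 0 := by decide

end F4

/-! ### unitary matrices -/

/-- the nine equations saying that the columns of a matrix are orthonormal for the hermitian form -/
def V9 {K : Type*} [CommRing K] (a b c d e f g h i : K) : Prop :=
  (a * a ^ 2 + d * d ^ 2 + g * g ^ 2 = 1 ∧ a * b ^ 2 + d * e ^ 2 + g * h ^ 2 = 0 ∧
    a * c ^ 2 + d * f ^ 2 + g * i ^ 2 = 0) ∧
  (b * a ^ 2 + e * d ^ 2 + h * g ^ 2 = 0 ∧ b * b ^ 2 + e * e ^ 2 + h * h ^ 2 = 1 ∧
    b * c ^ 2 + e * f ^ 2 + h * i ^ 2 = 0) ∧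
  (c * a ^ 2 + f * d ^ 2 + i * g ^ 2 = 0 ∧ c * b ^ 2 + f * e ^ 2 + i * h ^ 2 = 0 ∧
    c * c ^ 2 + f * f ^ 2 + i * i ^ 2 = 1)

theorem sq_add3 {K : Type*} [CommRing K] (h2 : (2 : K) = 0) (a b c : K) :
    (a + b + c) ^ 2 = a ^ 2 + b ^ 2 + c ^ 2 := by
  linear_combination (a * b + a * c + b * c) * h2

theorem mem_SU_iff2 {K : Type*} [Field K] (h2 : (2 : K) = 0)
    (g : Matrix.SpecialLinearGroup (Fin 3) K) :
    g ∈ Cfsg.SU 3 K 2 ↔ V9 (g.val 0 0) (g.val 0 1) (g.val 0 2) (g.val 1 0) (g.val 1 1) (g.val 1 2)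
      (g.val 2 0) (g.val 2 1) (g.val 2 2) := by
  constructor
  · intro h
    have h' : ∀ u v : Fin 3 → K, Cfsg.hermForm 3 K 2 (Matrix.mulVec g.val u) (Matrix.mulVec g.val v) =
        Cfsg.hermForm 3 K 2 u v := h
    have key : ∀ j k : Fin 3, g.val 0 j * g.val 0 k ^ 2 + g.val 1 j * g.val 1 k ^ 2 +
        g.val 2 j * g.val 2 k ^ 2 = if j = k then 1 else 0 := by
      intro j k
      have := h' (Pi.single j 1) (Pi.single k 1)
      simp only [Cfsg.hermForm, Matrix.mulVec_single_one, Fin.sum_univ_three, Matrix.col_apply] at this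
      rw [this]
      fin_cases j <;> fin_cases k <;> simp
    exact ⟨⟨by simpa using key 0 0, by simpa using key 0 1, by simpa using key 0 2⟩,
      ⟨by simpa using key 1 0, by simpa using key 1 1, by simpa using key 1 2⟩,
      ⟨by simpa using key 2 0, by simpa using key 2 1, by simpa using key 2 2⟩⟩
  · rintro ⟨⟨h00, h01, h02⟩, ⟨h10, h11, h12⟩, ⟨h20, h21, h22⟩⟩
    show ∀ u v : Fin 3 → K, Cfsg.hermForm 3 K 2 (Matrix.mulVec g.val u) (Matrix.mulVec g.val v) =
        Cfsg.hermForm 3 K 2 u v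
    intro u v
    simp only [Cfsg.hermForm, Matrix.mulVec, dotProduct, Fin.sum_univ_three, sq_add3 h2]
    linear_combination u 0 * v 0 ^ 2 * h00 + u 0 * v 1 ^ 2 * h01 + u 0 * v 2 ^ 2 * h02 +
      u 1 * v 0 ^ 2 * h10 + u 1 * v 1 ^ 2 * h11 + u 1 * v 2 ^ 2 * h12 +
      u 2 * v 0 ^ 2 * h20 + u 2 * v 1 ^ 2 * h21 + u 2 * v 2 ^ 2 * h22

theorem V9_map {R S : Type*} [CommRing R] [CommRing S] (φ : R →+* S) (hφ : Function.Injective φ)
    (a b c d e f g h i : R) :
    V9 (φ a) (φ b) (φ c) (φ d) (φ e) (φ f) (φ g) (φ h) (φ i) ↔ V9 a b c d e f g h i := by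
  unfold V9
  simp only [← map_pow, ← map_mul, ← map_add]
  rw [← map_one φ, ← map_zero φ]
  simp only [hφ.eq_iff]

theorem slEquiv3_mem2 {K L : Type*} [Field K] [Field L] (e : K ≃+* L) (h2 : (2 : K) = 0)
    (g : Matrix.SpecialLinearGroup (Fin 3) K) :
    slEquiv3 e g ∈ Cfsg.SU 3 L 2 ↔ g ∈ Cfsg.SU 3 K 2 := by
  have h2' : (2 : L) = 0 := by
    have := congrArg e h2
    rwa [map_ofNat, map_zero] at this
  rw [mem_SU_iff2 h2', mem_SU_iff2 h2]
  simp only [slEquiv3_apply]
  exact V9_map e.toRingHom e.injective _ _ _ _ _ _ _ _ _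

/-- the special unitary groups over isomorphic fields are isomorphic -/
def suEquiv2 {K L : Type*} [Field K] [Field L] (e : K ≃+* L) (h2 : (2 : K) = 0) :
    Cfsg.SU 3 K 2 ≃* Cfsg.SU 3 L 2 where
  toFun x := ⟨slEquiv3 e x.1, (slEquiv3_mem2 e h2 x.1).mpr x.2⟩
  invFun y := ⟨(slEquiv3 e).symm y.1, by
    rw [← slEquiv3_mem2 e h2, MulEquiv.apply_symm_apply]
    exact y.2⟩
  left_inv x := by
    apply Subtype.ext
    exact (slEquiv3 e).symm_apply_apply x.1
  right_inv y := by
    apply Subtype.ext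
    exact (slEquiv3 e).apply_symm_apply y.1
  map_mul' x y := by
    apply Subtype.ext
    exact map_mul (slEquiv3 e) x.1 y.1

/-- the centre corresponds under an isomorphism -/
theorem center_map_equiv {G H : Type*} [Group G] [Group H] (e : G ≃* H) :
    (Subgroup.center G).map e.toMonoidHom = Subgroup.center H := by
  ext y
  constructor
  · rintro ⟨x, hx, rfl⟩
    have hx' : x ∈ Subgroup.center G := hx
    rw [Subgroup.mem_center_iff] at hx' ⊢
    intro z
    have := congrArg e (hx' (e.symm z))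
    simpa using this
  · intro hy
    refine ⟨e.symm y, ?_, by simp⟩
    show e.symm y ∈ Subgroup.center G
    rw [Subgroup.mem_center_iff] at hy ⊢
    intro z
    apply e.injective
    have := hy (e z)
    simpa using this

/-- the quotients by the centre of isomorphic groups are isomorphic -/
noncomputable def quotCenterEquiv {G H : Type*} [Group G] [Group H] (e : G ≃* H) :
    G ⧸ Subgroup.center G ≃* H ⧸ Subgroup.center H :=
  QuotientGroup.congr (Subgroup.center G) (Subgroup.center H) e (center_map_equiv e)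

/-- the projective special unitary groups over isomorphic fields are isomorphic -/
noncomputable def psuEquiv2 {K L : Type*} [Field K] [Field L] (e : K ≃+* L) (h2 : (2 : K) = 0) :
    Cfsg.PSU 3 K 2 ≃* Cfsg.PSU 3 L 2 :=
  quotCenterEquiv (suEquiv2 e h2)

/-- counting a set through an injective encoding into a list -/
theorem card_of_list {T M : Type*} [DecidableEq M] (enc : T → M) (henc : Function.Injective enc)
    (S : Set T) (L : List M) (hL : L.Nodup) (h1 : ∀ x, x ∈ S ↔ enc x ∈ L)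
    (h2 : ∀ m ∈ L, ∃ x, enc x = m) : Nat.card S = L.length := by
  have e : S ≃ {m // m ∈ L} := by
    refine Equiv.ofBijective (fun x => ⟨enc x.1, (h1 x.1).mp x.2⟩) ⟨?_, ?_⟩
    · intro x y hxy
      apply Subtype.ext
      apply henc
      exact congrArg Subtype.val hxy
    · rintro ⟨m, hm⟩
      obtain ⟨x, rfl⟩ := h2 m hm
      exact ⟨⟨x, (h1 x).mpr hm⟩, rfl⟩
  rw [Nat.card_congr e, Nat.card_eq_fintype_card, Fintype.card_of_subtype L.toFinset (by simp),
    List.toFinset_card_of_nodup hL]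

end Cfsg.Agent.Lib.helper17.U32
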