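import Mathlib
import Cfsg.Prelude.Def_Classical
import Cfsg.Agent.Lib.helper17.SL33
import Cfsg.Agent.Lib.helper17.U33
import Cfsg.Agent.Lib.helper17.U32

set_option autoImplicit false

namespace Cfsg.Agent.Lib.helper17.U32

open Cfsg.Agent.Lib.helper17.SL33
open Cfsg.Agent.Lib.helper17.U33 (slEquiv3 slEquiv3_apply M3.mul_def M3.one_def)

/-- the unitarity condition -/
def unit2 (m : M3 F4) : Prop := V9 m.a m.b m.c m.d m.e m.f m.g m.h m.i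

instance unit2.instDecidable : DecidablePred unit2 := fun m => by
  unfold unit2 V9
  infer_instance

/-- the elements of `SU(3,2)` -/
def litsU : List (M3 F4) :=
  [⟨⟨false, false⟩, ⟨false, false⟩, ⟨false, true⟩, ⟨false, false⟩, ⟨false, true⟩, ⟨false, false⟩, ⟨false, true⟩, ⟨false, false⟩, ⟨false, false⟩⟩,
   ⟨⟨false, false⟩, ⟨false, false⟩, ⟨true, true⟩, ⟨false, false⟩, ⟨true, false⟩, ⟨false, false⟩, ⟨false, true⟩, ⟨false, false⟩, ⟨false, false⟩⟩,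
   ⟨⟨false, false⟩, ⟨false, false⟩, ⟨true, false⟩, ⟨false, false⟩, ⟨true, true⟩, ⟨false, false⟩, ⟨false, true⟩, ⟨false, false⟩, ⟨false, false⟩⟩,
   ⟨⟨false, false⟩, ⟨false, true⟩, ⟨false, false⟩, ⟨false, false⟩, ⟨false, false⟩, ⟨false, true⟩, ⟨false, true⟩, ⟨false, false⟩, ⟨false, false⟩⟩,
   ⟨⟨false, false⟩, ⟨true, false⟩, ⟨false, false⟩, ⟨false, false⟩, ⟨false, false⟩, ⟨true, true⟩, ⟨false, true⟩, ⟨false, false⟩, ⟨false, false⟩⟩,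
   ⟨⟨false, false⟩, ⟨true, true⟩, ⟨false, false⟩, ⟨false, false⟩, ⟨false, false⟩, ⟨true, false⟩, ⟨false, true⟩, ⟨false, false⟩, ⟨false, false⟩⟩,
   ⟨⟨false, false⟩, ⟨false, false⟩, ⟨true, true⟩, ⟨false, false⟩, ⟨false, true⟩, ⟨false, false⟩, ⟨true, false⟩, ⟨false, false⟩, ⟨false, false⟩⟩,
   ⟨⟨false, false⟩, ⟨false, false⟩, ⟨true, false⟩, ⟨false, false⟩, ⟨true, false⟩, ⟨false, false⟩, ⟨true, false⟩, ⟨false, false⟩, ⟨false, false⟩⟩,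
   ⟨⟨false, false⟩, ⟨false, false⟩, ⟨false, true⟩, ⟨false, false⟩, ⟨true, true⟩, ⟨false, false⟩, ⟨true, false⟩, ⟨false, false⟩, ⟨false, false⟩⟩,
   ⟨⟨false, false⟩, ⟨false, true⟩, ⟨false, false⟩, ⟨false, false⟩, ⟨false, false⟩, ⟨true, true⟩, ⟨true, false⟩, ⟨false, false⟩, ⟨false, false⟩⟩,
   ⟨⟨false, false⟩, ⟨true, false⟩, ⟨false, false⟩, ⟨false, false⟩, ⟨false, false⟩, ⟨true, false⟩, ⟨true, false⟩, ⟨false, false⟩, ⟨false, false⟩⟩,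
   ⟨⟨false, false⟩, ⟨true, true⟩, ⟨false, false⟩, ⟨false, false⟩, ⟨false, false⟩, ⟨false, true⟩, ⟨true, false⟩, ⟨false, false⟩, ⟨false, false⟩⟩,
   ⟨⟨false, false⟩, ⟨false, false⟩, ⟨true, false⟩, ⟨false, false⟩, ⟨false, true⟩, ⟨false, false⟩, ⟨true, true⟩, ⟨false, false⟩, ⟨false, false⟩⟩,
   ⟨⟨false, false⟩, ⟨false, false⟩, ⟨false, true⟩, ⟨false, false⟩, ⟨true, false⟩, ⟨false, false⟩, ⟨true, true⟩, ⟨false, false⟩, ⟨false, false⟩⟩,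
   ⟨⟨false, false⟩, ⟨false, false⟩, ⟨true, true⟩, ⟨false, false⟩, ⟨true, true⟩, ⟨false, false⟩, ⟨true, true⟩, ⟨false, false⟩, ⟨false, false⟩⟩,
   ⟨⟨false, false⟩, ⟨false, true⟩, ⟨false, false⟩, ⟨false, false⟩, ⟨false, false⟩, ⟨true, false⟩, ⟨true, true⟩, ⟨false, false⟩, ⟨false, false⟩⟩,
   ⟨⟨false, false⟩, ⟨true, false⟩, ⟨false, false⟩, ⟨false, false⟩, ⟨false, false⟩, ⟨false, true⟩, ⟨true, true⟩, ⟨false, false⟩, ⟨false, false⟩⟩,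
   ⟨⟨false, false⟩, ⟨true, true⟩, ⟨false, false⟩, ⟨false, false⟩, ⟨false, false⟩, ⟨true, true⟩, ⟨true, true⟩, ⟨false, false⟩, ⟨false, false⟩⟩,
   ⟨⟨false, false⟩, ⟨false, false⟩, ⟨false, true⟩, ⟨false, true⟩, ⟨false, false⟩, ⟨false, false⟩, ⟨false, false⟩, ⟨false, true⟩, ⟨false, false⟩⟩,
   ⟨⟨false, false⟩, ⟨false, false⟩, ⟨true, true⟩, ⟨false, true⟩, ⟨false, false⟩, ⟨false, false⟩, ⟨false, false⟩, ⟨true, false⟩, ⟨false, false⟩⟩,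
   ⟨⟨false, false⟩, ⟨false, false⟩, ⟨true, false⟩, ⟨false, true⟩, ⟨false, false⟩, ⟨false, false⟩, ⟨false, false⟩, ⟨true, true⟩, ⟨false, false⟩⟩,
   ⟨⟨false, false⟩, ⟨false, true⟩, ⟨false, false⟩, ⟨false, true⟩, ⟨false, false⟩, ⟨false, false⟩, ⟨false, false⟩, ⟨false, false⟩, ⟨false, true⟩⟩,
   ⟨⟨false, false⟩, ⟨true, false⟩, ⟨false, false⟩, ⟨false, true⟩, ⟨false, false⟩, ⟨false, false⟩, ⟨false, false⟩, ⟨false, false⟩, ⟨true, true⟩⟩,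
   ⟨⟨false, false⟩, ⟨true, true⟩, ⟨false, false⟩, ⟨false, true⟩, ⟨false, false⟩, ⟨false, false⟩, ⟨false, false⟩, ⟨false, false⟩, ⟨true, false⟩⟩,
   ⟨⟨false, false⟩, ⟨false, false⟩, ⟨true, true⟩, ⟨true, false⟩, ⟨false, false⟩, ⟨false, false⟩, ⟨false, false⟩, ⟨false, true⟩, ⟨false, false⟩⟩,
   ⟨⟨false, false⟩, ⟨false, false⟩, ⟨true, false⟩, ⟨true, false⟩, ⟨false, false⟩, ⟨false, false⟩, ⟨false, false⟩, ⟨true, false⟩, ⟨false, false⟩⟩,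
   ⟨⟨false, false⟩, ⟨false, false⟩, ⟨false, true⟩, ⟨true, false⟩, ⟨false, false⟩, ⟨false, false⟩, ⟨false, false⟩, ⟨true, true⟩, ⟨false, false⟩⟩,
   ⟨⟨false, false⟩, ⟨false, true⟩, ⟨false, false⟩, ⟨true, false⟩, ⟨false, false⟩, ⟨false, false⟩, ⟨false, false⟩, ⟨false, false⟩, ⟨true, true⟩⟩,
   ⟨⟨false, false⟩, ⟨true, false⟩, ⟨false, false⟩, ⟨true, false⟩, ⟨false, false⟩, ⟨false, false⟩, ⟨false, false⟩, ⟨false, false⟩, ⟨true, false⟩⟩,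
   ⟨⟨false, false⟩, ⟨true, true⟩, ⟨false, false⟩, ⟨true, false⟩, ⟨false, false⟩, ⟨false, false⟩, ⟨false, false⟩, ⟨false, false⟩, ⟨false, true⟩⟩,
   ⟨⟨false, false⟩, ⟨false, false⟩, ⟨true, false⟩, ⟨true, true⟩, ⟨false, false⟩, ⟨false, false⟩, ⟨false, false⟩, ⟨false, true⟩, ⟨false, false⟩⟩,
   ⟨⟨false, false⟩, ⟨false, false⟩, ⟨false, true⟩, ⟨true, true⟩, ⟨false, false⟩, ⟨false, false⟩, ⟨false, false⟩, ⟨true, false⟩, ⟨false, false⟩⟩,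
   ⟨⟨false, false⟩, ⟨false, false⟩, ⟨true, true⟩, ⟨true, true⟩, ⟨false, false⟩, ⟨false, false⟩, ⟨false, false⟩, ⟨true, true⟩, ⟨false, false⟩⟩,
   ⟨⟨false, false⟩, ⟨false, true⟩, ⟨false, false⟩, ⟨true, true⟩, ⟨false, false⟩, ⟨false, false⟩, ⟨false, false⟩, ⟨false, false⟩, ⟨true, false⟩⟩,
   ⟨⟨false, false⟩, ⟨true, false⟩, ⟨false, false⟩, ⟨true, true⟩, ⟨false, false⟩, ⟨false, false⟩, ⟨false, false⟩, ⟨false, false⟩, ⟨false, true⟩⟩,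
   ⟨⟨false, false⟩, ⟨true, true⟩, ⟨false, false⟩, ⟨true, true⟩, ⟨false, false⟩, ⟨false, false⟩, ⟨false, false⟩, ⟨false, false⟩, ⟨true, true⟩⟩,
   ⟨⟨false, true⟩, ⟨false, false⟩, ⟨false, false⟩, ⟨false, false⟩, ⟨false, false⟩, ⟨false, true⟩, ⟨false, false⟩, ⟨false, true⟩, ⟨false, false⟩⟩,
   ⟨⟨false, true⟩, ⟨false, false⟩, ⟨false, false⟩, ⟨false, false⟩, ⟨false, false⟩, ⟨true, true⟩, ⟨false, false⟩, ⟨true, false⟩, ⟨false, false⟩⟩,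
   ⟨⟨false, true⟩, ⟨false, false⟩, ⟨false, false⟩, ⟨false, false⟩, ⟨false, false⟩, ⟨true, false⟩, ⟨false, false⟩, ⟨true, true⟩, ⟨false, false⟩⟩,
   ⟨⟨false, true⟩, ⟨false, false⟩, ⟨false, false⟩, ⟨false, false⟩, ⟨false, true⟩, ⟨false, false⟩, ⟨false, false⟩, ⟨false, false⟩, ⟨false, true⟩⟩,
   ⟨⟨false, true⟩, ⟨false, false⟩, ⟨false, false⟩, ⟨false, false⟩, ⟨true, false⟩, ⟨false, false⟩, ⟨false, false⟩, ⟨false, false⟩, ⟨true, true⟩⟩,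
   ⟨⟨false, true⟩, ⟨false, false⟩, ⟨false, false⟩, ⟨false, false⟩, ⟨true, true⟩, ⟨false, false⟩, ⟨false, false⟩, ⟨false, false⟩, ⟨true, false⟩⟩,
   ⟨⟨false, true⟩, ⟨false, true⟩, ⟨false, true⟩, ⟨false, true⟩, ⟨true, false⟩, ⟨true, true⟩, ⟨false, true⟩, ⟨true, true⟩, ⟨true, false⟩⟩,
   ⟨⟨false, true⟩, ⟨false, true⟩, ⟨false, true⟩, ⟨false, true⟩, ⟨true, true⟩, ⟨true, false⟩, ⟨false, true⟩, ⟨true, false⟩, ⟨true, true⟩⟩,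
   ⟨⟨false, true⟩, ⟨true, false⟩, ⟨true, true⟩, ⟨false, true⟩, ⟨false, true⟩, ⟨false, true⟩, ⟨false, true⟩, ⟨true, true⟩, ⟨true, false⟩⟩,
   ⟨⟨false, true⟩, ⟨true, false⟩, ⟨true, true⟩, ⟨false, true⟩, ⟨true, true⟩, ⟨true, false⟩, ⟨false, true⟩, ⟨false, true⟩, ⟨false, true⟩⟩,
   ⟨⟨false, true⟩, ⟨true, true⟩, ⟨true, false⟩, ⟨false, true⟩, ⟨false, true⟩, ⟨false, true⟩, ⟨false, true⟩, ⟨true, false⟩, ⟨true, true⟩⟩,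
   ⟨⟨false, true⟩, ⟨true, true⟩, ⟨true, false⟩, ⟨false, true⟩, ⟨true, false⟩, ⟨true, true⟩, ⟨false, true⟩, ⟨false, true⟩, ⟨false, true⟩⟩,
   ⟨⟨false, true⟩, ⟨false, true⟩, ⟨true, true⟩, ⟨false, true⟩, ⟨true, false⟩, ⟨true, false⟩, ⟨true, false⟩, ⟨false, true⟩, ⟨true, false⟩⟩,
   ⟨⟨false, true⟩, ⟨false, true⟩, ⟨true, true⟩, ⟨false, true⟩, ⟨true, true⟩, ⟨false, true⟩, ⟨true, false⟩, ⟨true, true⟩, ⟨true, true⟩⟩,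
   ⟨⟨false, true⟩, ⟨true, false⟩, ⟨true, false⟩, ⟨false, true⟩, ⟨false, true⟩, ⟨true, true⟩, ⟨true, false⟩, ⟨false, true⟩, ⟨true, false⟩⟩,
   ⟨⟨false, true⟩, ⟨true, false⟩, ⟨true, false⟩, ⟨false, true⟩, ⟨true, true⟩, ⟨false, true⟩, ⟨true, false⟩, ⟨true, false⟩, ⟨false, true⟩⟩,
   ⟨⟨false, true⟩, ⟨true, true⟩, ⟨false, true⟩, ⟨false, true⟩, ⟨false, true⟩, ⟨true, true⟩, ⟨true, false⟩, ⟨true, true⟩, ⟨true, true⟩⟩,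
   ⟨⟨false, true⟩, ⟨true, true⟩, ⟨false, true⟩, ⟨false, true⟩, ⟨true, false⟩, ⟨true, false⟩, ⟨true, false⟩, ⟨true, false⟩, ⟨false, true⟩⟩,
   ⟨⟨false, true⟩, ⟨false, true⟩, ⟨true, false⟩, ⟨false, true⟩, ⟨true, false⟩, ⟨false, true⟩, ⟨true, true⟩, ⟨true, false⟩, ⟨true, false⟩⟩,
   ⟨⟨false, true⟩, ⟨false, true⟩, ⟨true, false⟩, ⟨false, true⟩, ⟨true, true⟩, ⟨true, true⟩, ⟨true, true⟩, ⟨false, true⟩, ⟨true, true⟩⟩,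
   ⟨⟨false, true⟩, ⟨true, false⟩, ⟨false, true⟩, ⟨false, true⟩, ⟨false, true⟩, ⟨true, false⟩, ⟨true, true⟩, ⟨true, false⟩, ⟨true, false⟩⟩,
   ⟨⟨false, true⟩, ⟨true, false⟩, ⟨false, true⟩, ⟨false, true⟩, ⟨true, true⟩, ⟨true, true⟩, ⟨true, true⟩, ⟨true, true⟩, ⟨false, true⟩⟩,
   ⟨⟨false, true⟩, ⟨true, true⟩, ⟨true, true⟩, ⟨false, true⟩, ⟨false, true⟩, ⟨true, false⟩, ⟨true, true⟩, ⟨false, true⟩, ⟨true, true⟩⟩,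
   ⟨⟨false, true⟩, ⟨true, true⟩, ⟨true, true⟩, ⟨false, true⟩, ⟨true, false⟩, ⟨false, true⟩, ⟨true, true⟩, ⟨true, true⟩, ⟨false, true⟩⟩,
   ⟨⟨false, true⟩, ⟨false, true⟩, ⟨true, true⟩, ⟨true, false⟩, ⟨false, true⟩, ⟨true, false⟩, ⟨false, true⟩, ⟨true, false⟩, ⟨true, false⟩⟩,
   ⟨⟨false, true⟩, ⟨false, true⟩, ⟨true, true⟩, ⟨true, false⟩, ⟨true, true⟩, ⟨true, true⟩, ⟨false, true⟩, ⟨true, true⟩, ⟨false, true⟩⟩,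
   ⟨⟨false, true⟩, ⟨true, false⟩, ⟨true, false⟩, ⟨true, false⟩, ⟨false, true⟩, ⟨true, false⟩, ⟨false, true⟩, ⟨false, true⟩, ⟨true, true⟩⟩,
   ⟨⟨false, true⟩, ⟨true, false⟩, ⟨true, false⟩, ⟨true, false⟩, ⟨true, false⟩, ⟨false, true⟩, ⟨false, true⟩, ⟨true, true⟩, ⟨false, true⟩⟩,
   ⟨⟨false, true⟩, ⟨true, true⟩, ⟨false, true⟩, ⟨true, false⟩, ⟨true, false⟩, ⟨false, true⟩, ⟨false, true⟩, ⟨true, false⟩, ⟨true, false⟩⟩,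
   ⟨⟨false, true⟩, ⟨true, true⟩, ⟨false, true⟩, ⟨true, false⟩, ⟨true, true⟩, ⟨true, true⟩, ⟨false, true⟩, ⟨false, true⟩, ⟨true, true⟩⟩,
   ⟨⟨false, true⟩, ⟨false, true⟩, ⟨true, false⟩, ⟨true, false⟩, ⟨false, true⟩, ⟨false, true⟩, ⟨true, false⟩, ⟨true, true⟩, ⟨true, false⟩⟩,
   ⟨⟨false, true⟩, ⟨false, true⟩, ⟨true, false⟩, ⟨true, false⟩, ⟨true, true⟩, ⟨true, false⟩, ⟨true, false⟩, ⟨false, true⟩, ⟨false, true⟩⟩,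
   ⟨⟨false, true⟩, ⟨true, false⟩, ⟨false, true⟩, ⟨true, false⟩, ⟨false, true⟩, ⟨false, true⟩, ⟨true, false⟩, ⟨true, false⟩, ⟨true, true⟩⟩,
   ⟨⟨false, true⟩, ⟨true, false⟩, ⟨false, true⟩, ⟨true, false⟩, ⟨true, false⟩, ⟨true, true⟩, ⟨true, false⟩, ⟨false, true⟩, ⟨false, true⟩⟩,
   ⟨⟨false, true⟩, ⟨true, true⟩, ⟨true, true⟩, ⟨true, false⟩, ⟨true, false⟩, ⟨true, true⟩, ⟨true, false⟩, ⟨true, true⟩, ⟨true, false⟩⟩,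
   ⟨⟨false, true⟩, ⟨true, true⟩, ⟨true, true⟩, ⟨true, false⟩, ⟨true, true⟩, ⟨true, false⟩, ⟨true, false⟩, ⟨true, false⟩, ⟨true, true⟩⟩,
   ⟨⟨false, true⟩, ⟨false, true⟩, ⟨false, true⟩, ⟨true, false⟩, ⟨false, true⟩, ⟨true, true⟩, ⟨true, true⟩, ⟨false, true⟩, ⟨true, false⟩⟩,
   ⟨⟨false, true⟩, ⟨false, true⟩, ⟨false, true⟩, ⟨true, false⟩, ⟨true, true⟩, ⟨false, true⟩, ⟨true, true⟩, ⟨true, false⟩, ⟨false, true⟩⟩,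
   ⟨⟨false, true⟩, ⟨true, false⟩, ⟨true, true⟩, ⟨true, false⟩, ⟨false, true⟩, ⟨true, true⟩, ⟨true, true⟩, ⟨true, true⟩, ⟨true, true⟩⟩,
   ⟨⟨false, true⟩, ⟨true, false⟩, ⟨true, true⟩, ⟨true, false⟩, ⟨true, false⟩, ⟨true, false⟩, ⟨true, true⟩, ⟨true, false⟩, ⟨false, true⟩⟩,
   ⟨⟨false, true⟩, ⟨true, true⟩, ⟨true, false⟩, ⟨true, false⟩, ⟨true, false⟩, ⟨true, false⟩, ⟨true, true⟩, ⟨false, true⟩, ⟨true, false⟩⟩,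
   ⟨⟨false, true⟩, ⟨true, true⟩, ⟨true, false⟩, ⟨true, false⟩, ⟨true, true⟩, ⟨false, true⟩, ⟨true, true⟩, ⟨true, true⟩, ⟨true, true⟩⟩,
   ⟨⟨false, true⟩, ⟨false, true⟩, ⟨true, false⟩, ⟨true, true⟩, ⟨false, true⟩, ⟨true, true⟩, ⟨false, true⟩, ⟨true, true⟩, ⟨true, true⟩⟩,
   ⟨⟨false, true⟩, ⟨false, true⟩, ⟨true, false⟩, ⟨true, true⟩, ⟨true, false⟩, ⟨true, false⟩, ⟨false, true⟩, ⟨true, false⟩, ⟨false, true⟩⟩,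
   ⟨⟨false, true⟩, ⟨true, false⟩, ⟨false, true⟩, ⟨true, true⟩, ⟨true, false⟩, ⟨true, false⟩, ⟨false, true⟩, ⟨false, true⟩, ⟨true, false⟩⟩,
   ⟨⟨false, true⟩, ⟨true, false⟩, ⟨false, true⟩, ⟨true, true⟩, ⟨true, true⟩, ⟨false, true⟩, ⟨false, true⟩, ⟨true, true⟩, ⟨true, true⟩⟩,
   ⟨⟨false, true⟩, ⟨true, true⟩, ⟨true, true⟩, ⟨true, true⟩, ⟨false, true⟩, ⟨true, true⟩, ⟨false, true⟩, ⟨false, true⟩, ⟨true, false⟩⟩,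
   ⟨⟨false, true⟩, ⟨true, true⟩, ⟨true, true⟩, ⟨true, true⟩, ⟨true, true⟩, ⟨false, true⟩, ⟨false, true⟩, ⟨true, false⟩, ⟨false, true⟩⟩,
   ⟨⟨false, true⟩, ⟨false, true⟩, ⟨false, true⟩, ⟨true, true⟩, ⟨false, true⟩, ⟨true, false⟩, ⟨true, false⟩, ⟨false, true⟩, ⟨true, true⟩⟩,
   ⟨⟨false, true⟩, ⟨false, true⟩, ⟨false, true⟩, ⟨true, true⟩, ⟨true, false⟩, ⟨false, true⟩, ⟨true, false⟩, ⟨true, true⟩, ⟨false, true⟩⟩,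
   ⟨⟨false, true⟩, ⟨true, false⟩, ⟨true, true⟩, ⟨true, true⟩, ⟨true, false⟩, ⟨false, true⟩, ⟨true, false⟩, ⟨true, false⟩, ⟨true, false⟩⟩,
   ⟨⟨false, true⟩, ⟨true, false⟩, ⟨true, true⟩, ⟨true, true⟩, ⟨true, true⟩, ⟨true, true⟩, ⟨true, false⟩, ⟨false, true⟩, ⟨true, true⟩⟩,
   ⟨⟨false, true⟩, ⟨true, true⟩, ⟨true, false⟩, ⟨true, true⟩, ⟨false, true⟩, ⟨true, false⟩, ⟨true, false⟩, ⟨true, false⟩, ⟨true, false⟩⟩,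
   ⟨⟨false, true⟩, ⟨true, true⟩, ⟨true, false⟩, ⟨true, true⟩, ⟨true, true⟩, ⟨true, true⟩, ⟨true, false⟩, ⟨true, true⟩, ⟨false, true⟩⟩,
   ⟨⟨false, true⟩, ⟨false, true⟩, ⟨true, true⟩, ⟨true, true⟩, ⟨false, true⟩, ⟨false, true⟩, ⟨true, true⟩, ⟨true, false⟩, ⟨true, true⟩⟩,
   ⟨⟨false, true⟩, ⟨false, true⟩, ⟨true, true⟩, ⟨true, true⟩, ⟨true, false⟩, ⟨true, true⟩, ⟨true, true⟩, ⟨false, true⟩, ⟨false, true⟩⟩,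
   ⟨⟨false, true⟩, ⟨true, false⟩, ⟨true, false⟩, ⟨true, true⟩, ⟨true, false⟩, ⟨true, true⟩, ⟨true, true⟩, ⟨true, true⟩, ⟨true, false⟩⟩,
   ⟨⟨false, true⟩, ⟨true, false⟩, ⟨true, false⟩, ⟨true, true⟩, ⟨true, true⟩, ⟨true, false⟩, ⟨true, true⟩, ⟨true, false⟩, ⟨true, true⟩⟩,
   ⟨⟨false, true⟩, ⟨true, true⟩, ⟨false, true⟩, ⟨true, true⟩, ⟨false, true⟩, ⟨false, true⟩, ⟨true, true⟩, ⟨true, true⟩, ⟨true, false⟩⟩,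
   ⟨⟨false, true⟩, ⟨true, true⟩, ⟨false, true⟩, ⟨true, true⟩, ⟨true, true⟩, ⟨true, false⟩, ⟨true, true⟩, ⟨false, true⟩, ⟨false, true⟩⟩,
   ⟨⟨true, false⟩, ⟨false, false⟩, ⟨false, false⟩, ⟨false, false⟩, ⟨false, false⟩, ⟨true, true⟩, ⟨false, false⟩, ⟨false, true⟩, ⟨false, false⟩⟩,
   ⟨⟨true, false⟩, ⟨false, false⟩, ⟨false, false⟩, ⟨false, false⟩, ⟨false, false⟩, ⟨true, false⟩, ⟨false, false⟩, ⟨true, false⟩, ⟨false, false⟩⟩,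
   ⟨⟨true, false⟩, ⟨false, false⟩, ⟨false, false⟩, ⟨false, false⟩, ⟨false, false⟩, ⟨false, true⟩, ⟨false, false⟩, ⟨true, true⟩, ⟨false, false⟩⟩,
   ⟨⟨true, false⟩, ⟨false, false⟩, ⟨false, false⟩, ⟨false, false⟩, ⟨false, true⟩, ⟨false, false⟩, ⟨false, false⟩, ⟨false, false⟩, ⟨true, true⟩⟩,
   ⟨⟨true, false⟩, ⟨false, false⟩, ⟨false, false⟩, ⟨false, false⟩, ⟨true, false⟩, ⟨false, false⟩, ⟨false, false⟩, ⟨false, false⟩, ⟨true, false⟩⟩,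
   ⟨⟨true, false⟩, ⟨false, false⟩, ⟨false, false⟩, ⟨false, false⟩, ⟨true, true⟩, ⟨false, false⟩, ⟨false, false⟩, ⟨false, false⟩, ⟨false, true⟩⟩,
   ⟨⟨true, false⟩, ⟨false, true⟩, ⟨true, false⟩, ⟨false, true⟩, ⟨false, true⟩, ⟨true, true⟩, ⟨false, true⟩, ⟨true, false⟩, ⟨true, false⟩⟩,
   ⟨⟨true, false⟩, ⟨false, true⟩, ⟨true, false⟩, ⟨false, true⟩, ⟨true, false⟩, ⟨true, false⟩, ⟨false, true⟩, ⟨false, true⟩, ⟨true, true⟩⟩,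
   ⟨⟨true, false⟩, ⟨true, false⟩, ⟨false, true⟩, ⟨false, true⟩, ⟨true, false⟩, ⟨true, false⟩, ⟨false, true⟩, ⟨true, true⟩, ⟨false, true⟩⟩,
   ⟨⟨true, false⟩, ⟨true, false⟩, ⟨false, true⟩, ⟨false, true⟩, ⟨true, true⟩, ⟨false, true⟩, ⟨false, true⟩, ⟨true, false⟩, ⟨true, false⟩⟩,
   ⟨⟨true, false⟩, ⟨true, true⟩, ⟨true, true⟩, ⟨false, true⟩, ⟨false, true⟩, ⟨true, true⟩, ⟨false, true⟩, ⟨true, true⟩, ⟨false, true⟩⟩,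
   ⟨⟨true, false⟩, ⟨true, true⟩, ⟨true, true⟩, ⟨false, true⟩, ⟨true, true⟩, ⟨false, true⟩, ⟨false, true⟩, ⟨false, true⟩, ⟨true, true⟩⟩,
   ⟨⟨true, false⟩, ⟨false, true⟩, ⟨false, true⟩, ⟨false, true⟩, ⟨false, true⟩, ⟨true, false⟩, ⟨true, false⟩, ⟨true, true⟩, ⟨true, false⟩⟩,
   ⟨⟨true, false⟩, ⟨false, true⟩, ⟨false, true⟩, ⟨false, true⟩, ⟨true, false⟩, ⟨false, true⟩, ⟨true, false⟩, ⟨true, false⟩, ⟨true, true⟩⟩,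
   ⟨⟨true, false⟩, ⟨true, false⟩, ⟨true, true⟩, ⟨false, true⟩, ⟨true, false⟩, ⟨false, true⟩, ⟨true, false⟩, ⟨false, true⟩, ⟨false, true⟩⟩,
   ⟨⟨true, false⟩, ⟨true, false⟩, ⟨true, true⟩, ⟨false, true⟩, ⟨true, true⟩, ⟨true, true⟩, ⟨true, false⟩, ⟨true, true⟩, ⟨true, false⟩⟩,
   ⟨⟨true, false⟩, ⟨true, true⟩, ⟨true, false⟩, ⟨false, true⟩, ⟨false, true⟩, ⟨true, false⟩, ⟨true, false⟩, ⟨false, true⟩, ⟨false, true⟩⟩,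
   ⟨⟨true, false⟩, ⟨true, true⟩, ⟨true, false⟩, ⟨false, true⟩, ⟨true, true⟩, ⟨true, true⟩, ⟨true, false⟩, ⟨true, false⟩, ⟨true, true⟩⟩,
   ⟨⟨true, false⟩, ⟨false, true⟩, ⟨true, true⟩, ⟨false, true⟩, ⟨false, true⟩, ⟨false, true⟩, ⟨true, true⟩, ⟨false, true⟩, ⟨true, false⟩⟩,
   ⟨⟨true, false⟩, ⟨false, true⟩, ⟨true, true⟩, ⟨false, true⟩, ⟨true, false⟩, ⟨true, true⟩, ⟨true, true⟩, ⟨true, true⟩, ⟨true, true⟩⟩,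
   ⟨⟨true, false⟩, ⟨true, false⟩, ⟨true, false⟩, ⟨false, true⟩, ⟨true, false⟩, ⟨true, true⟩, ⟨true, true⟩, ⟨true, false⟩, ⟨false, true⟩⟩,
   ⟨⟨true, false⟩, ⟨true, false⟩, ⟨true, false⟩, ⟨false, true⟩, ⟨true, true⟩, ⟨true, false⟩, ⟨true, true⟩, ⟨false, true⟩, ⟨true, false⟩⟩,
   ⟨⟨true, false⟩, ⟨true, true⟩, ⟨false, true⟩, ⟨false, true⟩, ⟨false, true⟩, ⟨false, true⟩, ⟨true, true⟩, ⟨true, false⟩, ⟨false, true⟩⟩,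
   ⟨⟨true, false⟩, ⟨true, true⟩, ⟨false, true⟩, ⟨false, true⟩, ⟨true, true⟩, ⟨true, false⟩, ⟨true, true⟩, ⟨true, true⟩, ⟨true, true⟩⟩,
   ⟨⟨true, false⟩, ⟨false, true⟩, ⟨false, true⟩, ⟨true, false⟩, ⟨true, false⟩, ⟨true, true⟩, ⟨false, true⟩, ⟨true, false⟩, ⟨false, true⟩⟩,
   ⟨⟨true, false⟩, ⟨false, true⟩, ⟨false, true⟩, ⟨true, false⟩, ⟨true, true⟩, ⟨true, false⟩, ⟨false, true⟩, ⟨false, true⟩, ⟨true, false⟩⟩,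
   ⟨⟨true, false⟩, ⟨true, false⟩, ⟨true, true⟩, ⟨true, false⟩, ⟨false, true⟩, ⟨false, true⟩, ⟨false, true⟩, ⟨true, false⟩, ⟨false, true⟩⟩,
   ⟨⟨true, false⟩, ⟨true, false⟩, ⟨true, true⟩, ⟨true, false⟩, ⟨true, true⟩, ⟨true, false⟩, ⟨false, true⟩, ⟨true, true⟩, ⟨true, true⟩⟩,
   ⟨⟨true, false⟩, ⟨true, true⟩, ⟨true, false⟩, ⟨true, false⟩, ⟨false, true⟩, ⟨false, true⟩, ⟨false, true⟩, ⟨false, true⟩, ⟨true, false⟩⟩,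
   ⟨⟨true, false⟩, ⟨true, true⟩, ⟨true, false⟩, ⟨true, false⟩, ⟨true, false⟩, ⟨true, true⟩, ⟨false, true⟩, ⟨true, true⟩, ⟨true, true⟩⟩,
   ⟨⟨true, false⟩, ⟨false, true⟩, ⟨true, true⟩, ⟨true, false⟩, ⟨true, false⟩, ⟨true, false⟩, ⟨true, false⟩, ⟨true, true⟩, ⟨false, true⟩⟩,
   ⟨⟨true, false⟩, ⟨false, true⟩, ⟨true, true⟩, ⟨true, false⟩, ⟨true, true⟩, ⟨false, true⟩, ⟨true, false⟩, ⟨true, false⟩, ⟨true, false⟩⟩,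
   ⟨⟨true, false⟩, ⟨true, false⟩, ⟨true, false⟩, ⟨true, false⟩, ⟨false, true⟩, ⟨true, true⟩, ⟨true, false⟩, ⟨true, true⟩, ⟨false, true⟩⟩,
   ⟨⟨true, false⟩, ⟨true, false⟩, ⟨true, false⟩, ⟨true, false⟩, ⟨true, true⟩, ⟨false, true⟩, ⟨true, false⟩, ⟨false, true⟩, ⟨true, true⟩⟩,
   ⟨⟨true, false⟩, ⟨true, true⟩, ⟨false, true⟩, ⟨true, false⟩, ⟨false, true⟩, ⟨true, true⟩, ⟨true, false⟩, ⟨true, false⟩, ⟨true, false⟩⟩,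
   ⟨⟨true, false⟩, ⟨true, true⟩, ⟨false, true⟩, ⟨true, false⟩, ⟨true, false⟩, ⟨true, false⟩, ⟨true, false⟩, ⟨false, true⟩, ⟨true, true⟩⟩,
   ⟨⟨true, false⟩, ⟨false, true⟩, ⟨true, false⟩, ⟨true, false⟩, ⟨true, false⟩, ⟨false, true⟩, ⟨true, true⟩, ⟨false, true⟩, ⟨false, true⟩⟩,
   ⟨⟨true, false⟩, ⟨false, true⟩, ⟨true, false⟩, ⟨true, false⟩, ⟨true, true⟩, ⟨true, true⟩, ⟨true, true⟩, ⟨true, true⟩, ⟨true, false⟩⟩,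
   ⟨⟨true, false⟩, ⟨true, false⟩, ⟨false, true⟩, ⟨true, false⟩, ⟨false, true⟩, ⟨true, false⟩, ⟨true, true⟩, ⟨false, true⟩, ⟨false, true⟩⟩,
   ⟨⟨true, false⟩, ⟨true, false⟩, ⟨false, true⟩, ⟨true, false⟩, ⟨true, true⟩, ⟨true, true⟩, ⟨true, true⟩, ⟨true, false⟩, ⟨true, true⟩⟩,
   ⟨⟨true, false⟩, ⟨true, true⟩, ⟨true, true⟩, ⟨true, false⟩, ⟨false, true⟩, ⟨true, false⟩, ⟨true, true⟩, ⟨true, true⟩, ⟨true, false⟩⟩,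
   ⟨⟨true, false⟩, ⟨true, true⟩, ⟨true, true⟩, ⟨true, false⟩, ⟨true, false⟩, ⟨false, true⟩, ⟨true, true⟩, ⟨true, false⟩, ⟨true, true⟩⟩,
   ⟨⟨true, false⟩, ⟨false, true⟩, ⟨true, true⟩, ⟨true, true⟩, ⟨false, true⟩, ⟨true, false⟩, ⟨false, true⟩, ⟨false, true⟩, ⟨false, true⟩⟩,
   ⟨⟨true, false⟩, ⟨false, true⟩, ⟨true, true⟩, ⟨true, true⟩, ⟨true, true⟩, ⟨true, true⟩, ⟨false, true⟩, ⟨true, false⟩, ⟨true, true⟩⟩,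
   ⟨⟨true, false⟩, ⟨true, false⟩, ⟨true, false⟩, ⟨true, true⟩, ⟨false, true⟩, ⟨true, false⟩, ⟨false, true⟩, ⟨true, true⟩, ⟨true, false⟩⟩,
   ⟨⟨true, false⟩, ⟨true, false⟩, ⟨true, false⟩, ⟨true, true⟩, ⟨true, false⟩, ⟨false, true⟩, ⟨false, true⟩, ⟨true, false⟩, ⟨true, true⟩⟩,
   ⟨⟨true, false⟩, ⟨true, true⟩, ⟨false, true⟩, ⟨true, true⟩, ⟨true, false⟩, ⟨false, true⟩, ⟨false, true⟩, ⟨false, true⟩, ⟨false, true⟩⟩,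
   ⟨⟨true, false⟩, ⟨true, true⟩, ⟨false, true⟩, ⟨true, true⟩, ⟨true, true⟩, ⟨true, true⟩, ⟨false, true⟩, ⟨true, true⟩, ⟨true, false⟩⟩,
   ⟨⟨true, false⟩, ⟨false, true⟩, ⟨true, false⟩, ⟨true, true⟩, ⟨false, true⟩, ⟨false, true⟩, ⟨true, false⟩, ⟨true, false⟩, ⟨false, true⟩⟩,
   ⟨⟨true, false⟩, ⟨false, true⟩, ⟨true, false⟩, ⟨true, true⟩, ⟨true, true⟩, ⟨true, false⟩, ⟨true, false⟩, ⟨true, true⟩, ⟨true, true⟩⟩,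
   ⟨⟨true, false⟩, ⟨true, false⟩, ⟨false, true⟩, ⟨true, true⟩, ⟨false, true⟩, ⟨false, true⟩, ⟨true, false⟩, ⟨false, true⟩, ⟨true, false⟩⟩,
   ⟨⟨true, false⟩, ⟨true, false⟩, ⟨false, true⟩, ⟨true, true⟩, ⟨true, false⟩, ⟨true, true⟩, ⟨true, false⟩, ⟨true, true⟩, ⟨true, true⟩⟩,
   ⟨⟨true, false⟩, ⟨true, true⟩, ⟨true, true⟩, ⟨true, true⟩, ⟨true, false⟩, ⟨true, true⟩, ⟨true, false⟩, ⟨true, false⟩, ⟨false, true⟩⟩,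
   ⟨⟨true, false⟩, ⟨true, true⟩, ⟨true, true⟩, ⟨true, true⟩, ⟨true, true⟩, ⟨true, false⟩, ⟨true, false⟩, ⟨false, true⟩, ⟨true, false⟩⟩,
   ⟨⟨true, false⟩, ⟨false, true⟩, ⟨false, true⟩, ⟨true, true⟩, ⟨false, true⟩, ⟨true, true⟩, ⟨true, true⟩, ⟨true, true⟩, ⟨false, true⟩⟩,
   ⟨⟨true, false⟩, ⟨false, true⟩, ⟨false, true⟩, ⟨true, true⟩, ⟨true, true⟩, ⟨false, true⟩, ⟨true, true⟩, ⟨false, true⟩, ⟨true, true⟩⟩,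
   ⟨⟨true, false⟩, ⟨true, false⟩, ⟨true, true⟩, ⟨true, true⟩, ⟨false, true⟩, ⟨true, true⟩, ⟨true, true⟩, ⟨true, false⟩, ⟨true, false⟩⟩,
   ⟨⟨true, false⟩, ⟨true, false⟩, ⟨true, true⟩, ⟨true, true⟩, ⟨true, false⟩, ⟨true, false⟩, ⟨true, true⟩, ⟨false, true⟩, ⟨true, true⟩⟩,
   ⟨⟨true, false⟩, ⟨true, true⟩, ⟨true, false⟩, ⟨true, true⟩, ⟨true, false⟩, ⟨true, false⟩, ⟨true, true⟩, ⟨true, true⟩, ⟨false, true⟩⟩,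
   ⟨⟨true, false⟩, ⟨true, true⟩, ⟨true, false⟩, ⟨true, true⟩, ⟨true, true⟩, ⟨false, true⟩, ⟨true, true⟩, ⟨true, false⟩, ⟨true, false⟩⟩,
   ⟨⟨true, true⟩, ⟨false, false⟩, ⟨false, false⟩, ⟨false, false⟩, ⟨false, false⟩, ⟨true, false⟩, ⟨false, false⟩, ⟨false, true⟩, ⟨false, false⟩⟩,
   ⟨⟨true, true⟩, ⟨false, false⟩, ⟨false, false⟩, ⟨false, false⟩, ⟨false, false⟩, ⟨false, true⟩, ⟨false, false⟩, ⟨true, false⟩, ⟨false, false⟩⟩,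
   ⟨⟨true, true⟩, ⟨false, false⟩, ⟨false, false⟩, ⟨false, false⟩, ⟨false, false⟩, ⟨true, true⟩, ⟨false, false⟩, ⟨true, true⟩, ⟨false, false⟩⟩,
   ⟨⟨true, true⟩, ⟨false, false⟩, ⟨false, false⟩, ⟨false, false⟩, ⟨false, true⟩, ⟨false, false⟩, ⟨false, false⟩, ⟨false, false⟩, ⟨true, false⟩⟩,
   ⟨⟨true, true⟩, ⟨false, false⟩, ⟨false, false⟩, ⟨false, false⟩, ⟨true, false⟩, ⟨false, false⟩, ⟨false, false⟩, ⟨false, false⟩, ⟨false, true⟩⟩,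
   ⟨⟨true, true⟩, ⟨false, false⟩, ⟨false, false⟩, ⟨false, false⟩, ⟨true, true⟩, ⟨false, false⟩, ⟨false, false⟩, ⟨false, false⟩, ⟨true, true⟩⟩,
   ⟨⟨true, true⟩, ⟨false, true⟩, ⟨true, true⟩, ⟨false, true⟩, ⟨false, true⟩, ⟨true, false⟩, ⟨false, true⟩, ⟨true, true⟩, ⟨true, true⟩⟩,
   ⟨⟨true, true⟩, ⟨false, true⟩, ⟨true, true⟩, ⟨false, true⟩, ⟨true, true⟩, ⟨true, true⟩, ⟨false, true⟩, ⟨false, true⟩, ⟨true, false⟩⟩,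
   ⟨⟨true, true⟩, ⟨true, false⟩, ⟨true, false⟩, ⟨false, true⟩, ⟨false, true⟩, ⟨true, false⟩, ⟨false, true⟩, ⟨true, false⟩, ⟨false, true⟩⟩,
   ⟨⟨true, true⟩, ⟨true, false⟩, ⟨true, false⟩, ⟨false, true⟩, ⟨true, false⟩, ⟨false, true⟩, ⟨false, true⟩, ⟨false, true⟩, ⟨true, false⟩⟩,
   ⟨⟨true, true⟩, ⟨true, true⟩, ⟨false, true⟩, ⟨false, true⟩, ⟨true, false⟩, ⟨false, true⟩, ⟨false, true⟩, ⟨true, true⟩, ⟨true, true⟩⟩,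
   ⟨⟨true, true⟩, ⟨true, true⟩, ⟨false, true⟩, ⟨false, true⟩, ⟨true, true⟩, ⟨true, true⟩, ⟨false, true⟩, ⟨true, false⟩, ⟨false, true⟩⟩,
   ⟨⟨true, true⟩, ⟨false, true⟩, ⟨true, false⟩, ⟨false, true⟩, ⟨false, true⟩, ⟨false, true⟩, ⟨true, false⟩, ⟨false, true⟩, ⟨true, true⟩⟩,
   ⟨⟨true, true⟩, ⟨false, true⟩, ⟨true, false⟩, ⟨false, true⟩, ⟨true, true⟩, ⟨true, false⟩, ⟨true, false⟩, ⟨true, false⟩, ⟨true, false⟩⟩,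
   ⟨⟨true, true⟩, ⟨true, false⟩, ⟨false, true⟩, ⟨false, true⟩, ⟨false, true⟩, ⟨false, true⟩, ⟨true, false⟩, ⟨true, true⟩, ⟨false, true⟩⟩,
   ⟨⟨true, true⟩, ⟨true, false⟩, ⟨false, true⟩, ⟨false, true⟩, ⟨true, false⟩, ⟨true, true⟩, ⟨true, false⟩, ⟨true, false⟩, ⟨true, false⟩⟩,
   ⟨⟨true, true⟩, ⟨true, true⟩, ⟨true, true⟩, ⟨false, true⟩, ⟨true, false⟩, ⟨true, true⟩, ⟨true, false⟩, ⟨false, true⟩, ⟨true, true⟩⟩,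
   ⟨⟨true, true⟩, ⟨true, true⟩, ⟨true, true⟩, ⟨false, true⟩, ⟨true, true⟩, ⟨true, false⟩, ⟨true, false⟩, ⟨true, true⟩, ⟨false, true⟩⟩,
   ⟨⟨true, true⟩, ⟨false, true⟩, ⟨false, true⟩, ⟨false, true⟩, ⟨false, true⟩, ⟨true, true⟩, ⟨true, true⟩, ⟨true, false⟩, ⟨true, true⟩⟩,
   ⟨⟨true, true⟩, ⟨false, true⟩, ⟨false, true⟩, ⟨false, true⟩, ⟨true, true⟩, ⟨false, true⟩, ⟨true, true⟩, ⟨true, true⟩, ⟨true, false⟩⟩,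
   ⟨⟨true, true⟩, ⟨true, false⟩, ⟨true, true⟩, ⟨false, true⟩, ⟨false, true⟩, ⟨true, true⟩, ⟨true, true⟩, ⟨false, true⟩, ⟨false, true⟩⟩,
   ⟨⟨true, true⟩, ⟨true, false⟩, ⟨true, true⟩, ⟨false, true⟩, ⟨true, false⟩, ⟨true, false⟩, ⟨true, true⟩, ⟨true, true⟩, ⟨true, false⟩⟩,
   ⟨⟨true, true⟩, ⟨true, true⟩, ⟨true, false⟩, ⟨false, true⟩, ⟨true, false⟩, ⟨true, false⟩, ⟨true, true⟩, ⟨true, false⟩, ⟨true, true⟩⟩,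
   ⟨⟨true, true⟩, ⟨true, true⟩, ⟨true, false⟩, ⟨false, true⟩, ⟨true, true⟩, ⟨false, true⟩, ⟨true, true⟩, ⟨false, true⟩, ⟨false, true⟩⟩,
   ⟨⟨true, true⟩, ⟨false, true⟩, ⟨true, false⟩, ⟨true, false⟩, ⟨false, true⟩, ⟨true, true⟩, ⟨false, true⟩, ⟨false, true⟩, ⟨false, true⟩⟩,
   ⟨⟨true, true⟩, ⟨false, true⟩, ⟨true, false⟩, ⟨true, false⟩, ⟨true, false⟩, ⟨true, false⟩, ⟨false, true⟩, ⟨true, true⟩, ⟨true, false⟩⟩,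
   ⟨⟨true, true⟩, ⟨true, false⟩, ⟨false, true⟩, ⟨true, false⟩, ⟨true, false⟩, ⟨true, false⟩, ⟨false, true⟩, ⟨true, false⟩, ⟨true, true⟩⟩,
   ⟨⟨true, true⟩, ⟨true, false⟩, ⟨false, true⟩, ⟨true, false⟩, ⟨true, true⟩, ⟨false, true⟩, ⟨false, true⟩, ⟨false, true⟩, ⟨false, true⟩⟩,
   ⟨⟨true, true⟩, ⟨true, true⟩, ⟨true, true⟩, ⟨true, false⟩, ⟨false, true⟩, ⟨true, true⟩, ⟨false, true⟩, ⟨true, false⟩, ⟨true, true⟩⟩,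
   ⟨⟨true, true⟩, ⟨true, true⟩, ⟨true, true⟩, ⟨true, false⟩, ⟨true, true⟩, ⟨false, true⟩, ⟨false, true⟩, ⟨true, true⟩, ⟨true, false⟩⟩,
   ⟨⟨true, true⟩, ⟨false, true⟩, ⟨false, true⟩, ⟨true, false⟩, ⟨false, true⟩, ⟨true, false⟩, ⟨true, false⟩, ⟨true, false⟩, ⟨false, true⟩⟩,
   ⟨⟨true, true⟩, ⟨false, true⟩, ⟨false, true⟩, ⟨true, false⟩, ⟨true, false⟩, ⟨false, true⟩, ⟨true, false⟩, ⟨false, true⟩, ⟨true, false⟩⟩,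
   ⟨⟨true, true⟩, ⟨true, false⟩, ⟨true, true⟩, ⟨true, false⟩, ⟨true, false⟩, ⟨false, true⟩, ⟨true, false⟩, ⟨true, true⟩, ⟨true, true⟩⟩,
   ⟨⟨true, true⟩, ⟨true, false⟩, ⟨true, true⟩, ⟨true, false⟩, ⟨true, true⟩, ⟨true, true⟩, ⟨true, false⟩, ⟨true, false⟩, ⟨false, true⟩⟩,
   ⟨⟨true, true⟩, ⟨true, true⟩, ⟨true, false⟩, ⟨true, false⟩, ⟨false, true⟩, ⟨true, false⟩, ⟨true, false⟩, ⟨true, true⟩, ⟨true, true⟩⟩,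
   ⟨⟨true, true⟩, ⟨true, true⟩, ⟨true, false⟩, ⟨true, false⟩, ⟨true, true⟩, ⟨true, true⟩, ⟨true, false⟩, ⟨false, true⟩, ⟨true, false⟩⟩,
   ⟨⟨true, true⟩, ⟨false, true⟩, ⟨true, true⟩, ⟨true, false⟩, ⟨false, true⟩, ⟨false, true⟩, ⟨true, true⟩, ⟨true, true⟩, ⟨false, true⟩⟩,
   ⟨⟨true, true⟩, ⟨false, true⟩, ⟨true, true⟩, ⟨true, false⟩, ⟨true, false⟩, ⟨true, true⟩, ⟨true, true⟩, ⟨true, false⟩, ⟨true, false⟩⟩,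
   ⟨⟨true, true⟩, ⟨true, false⟩, ⟨true, false⟩, ⟨true, false⟩, ⟨true, false⟩, ⟨true, true⟩, ⟨true, true⟩, ⟨false, true⟩, ⟨true, true⟩⟩,
   ⟨⟨true, true⟩, ⟨true, false⟩, ⟨true, false⟩, ⟨true, false⟩, ⟨true, true⟩, ⟨true, false⟩, ⟨true, true⟩, ⟨true, true⟩, ⟨false, true⟩⟩,
   ⟨⟨true, true⟩, ⟨true, true⟩, ⟨false, true⟩, ⟨true, false⟩, ⟨false, true⟩, ⟨false, true⟩, ⟨true, true⟩, ⟨false, true⟩, ⟨true, true⟩⟩,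
   ⟨⟨true, true⟩, ⟨true, true⟩, ⟨false, true⟩, ⟨true, false⟩, ⟨true, true⟩, ⟨true, false⟩, ⟨true, true⟩, ⟨true, false⟩, ⟨true, false⟩⟩,
   ⟨⟨true, true⟩, ⟨false, true⟩, ⟨false, true⟩, ⟨true, true⟩, ⟨true, false⟩, ⟨true, true⟩, ⟨false, true⟩, ⟨false, true⟩, ⟨true, true⟩⟩,
   ⟨⟨true, true⟩, ⟨false, true⟩, ⟨false, true⟩, ⟨true, true⟩, ⟨true, true⟩, ⟨true, false⟩, ⟨false, true⟩, ⟨true, true⟩, ⟨false, true⟩⟩,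
   ⟨⟨true, true⟩, ⟨true, false⟩, ⟨true, true⟩, ⟨true, true⟩, ⟨false, true⟩, ⟨false, true⟩, ⟨false, true⟩, ⟨false, true⟩, ⟨true, true⟩⟩,
   ⟨⟨true, true⟩, ⟨true, false⟩, ⟨true, true⟩, ⟨true, true⟩, ⟨true, true⟩, ⟨true, false⟩, ⟨false, true⟩, ⟨true, false⟩, ⟨true, false⟩⟩,
   ⟨⟨true, true⟩, ⟨true, true⟩, ⟨true, false⟩, ⟨true, true⟩, ⟨false, true⟩, ⟨false, true⟩, ⟨false, true⟩, ⟨true, true⟩, ⟨false, true⟩⟩,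
   ⟨⟨true, true⟩, ⟨true, true⟩, ⟨true, false⟩, ⟨true, true⟩, ⟨true, false⟩, ⟨true, true⟩, ⟨false, true⟩, ⟨true, false⟩, ⟨true, false⟩⟩,
   ⟨⟨true, true⟩, ⟨false, true⟩, ⟨true, true⟩, ⟨true, true⟩, ⟨true, false⟩, ⟨true, false⟩, ⟨true, false⟩, ⟨true, false⟩, ⟨true, true⟩⟩,
   ⟨⟨true, true⟩, ⟨false, true⟩, ⟨true, true⟩, ⟨true, true⟩, ⟨true, true⟩, ⟨false, true⟩, ⟨true, false⟩, ⟨false, true⟩, ⟨false, true⟩⟩,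
   ⟨⟨true, true⟩, ⟨true, false⟩, ⟨true, false⟩, ⟨true, true⟩, ⟨false, true⟩, ⟨true, true⟩, ⟨true, false⟩, ⟨true, false⟩, ⟨true, true⟩⟩,
   ⟨⟨true, true⟩, ⟨true, false⟩, ⟨true, false⟩, ⟨true, true⟩, ⟨true, true⟩, ⟨false, true⟩, ⟨true, false⟩, ⟨true, true⟩, ⟨true, false⟩⟩,
   ⟨⟨true, true⟩, ⟨true, true⟩, ⟨false, true⟩, ⟨true, true⟩, ⟨false, true⟩, ⟨true, true⟩, ⟨true, false⟩, ⟨false, true⟩, ⟨false, true⟩⟩,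
   ⟨⟨true, true⟩, ⟨true, true⟩, ⟨false, true⟩, ⟨true, true⟩, ⟨true, false⟩, ⟨true, false⟩, ⟨true, false⟩, ⟨true, true⟩, ⟨true, false⟩⟩,
   ⟨⟨true, true⟩, ⟨false, true⟩, ⟨true, false⟩, ⟨true, true⟩, ⟨true, false⟩, ⟨false, true⟩, ⟨true, true⟩, ⟨true, true⟩, ⟨true, true⟩⟩,
   ⟨⟨true, true⟩, ⟨false, true⟩, ⟨true, false⟩, ⟨true, true⟩, ⟨true, true⟩, ⟨true, true⟩, ⟨true, true⟩, ⟨true, false⟩, ⟨false, true⟩⟩,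
   ⟨⟨true, true⟩, ⟨true, false⟩, ⟨false, true⟩, ⟨true, true⟩, ⟨false, true⟩, ⟨true, false⟩, ⟨true, true⟩, ⟨true, true⟩, ⟨true, true⟩⟩,
   ⟨⟨true, true⟩, ⟨true, false⟩, ⟨false, true⟩, ⟨true, true⟩, ⟨true, true⟩, ⟨true, true⟩, ⟨true, true⟩, ⟨false, true⟩, ⟨true, false⟩⟩,
   ⟨⟨true, true⟩, ⟨true, true⟩, ⟨true, true⟩, ⟨true, true⟩, ⟨false, true⟩, ⟨true, false⟩, ⟨true, true⟩, ⟨true, false⟩, ⟨false, true⟩⟩,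
   ⟨⟨true, true⟩, ⟨true, true⟩, ⟨true, true⟩, ⟨true, true⟩, ⟨true, false⟩, ⟨false, true⟩, ⟨true, true⟩, ⟨false, true⟩, ⟨true, false⟩⟩]

/-- the elements of `SU(3,2)` with cube one -/
def litsP : List (M3 F4) :=
  [⟨⟨false, false⟩, ⟨false, true⟩, ⟨false, false⟩, ⟨false, false⟩, ⟨false, false⟩, ⟨false, true⟩, ⟨false, true⟩, ⟨false, false⟩, ⟨false, false⟩⟩,
   ⟨⟨false, false⟩, ⟨true, false⟩, ⟨false, false⟩, ⟨false, false⟩, ⟨false, false⟩, ⟨true, true⟩, ⟨false, true⟩, ⟨false, false⟩, ⟨false, false⟩⟩,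
   ⟨⟨false, false⟩, ⟨true, true⟩, ⟨false, false⟩, ⟨false, false⟩, ⟨false, false⟩, ⟨true, false⟩, ⟨false, true⟩, ⟨false, false⟩, ⟨false, false⟩⟩,
   ⟨⟨false, false⟩, ⟨false, true⟩, ⟨false, false⟩, ⟨false, false⟩, ⟨false, false⟩, ⟨true, true⟩, ⟨true, false⟩, ⟨false, false⟩, ⟨false, false⟩⟩,
   ⟨⟨false, false⟩, ⟨true, false⟩, ⟨false, false⟩, ⟨false, false⟩, ⟨false, false⟩, ⟨true, false⟩, ⟨true, false⟩, ⟨false, false⟩, ⟨false, false⟩⟩,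
   ⟨⟨false, false⟩, ⟨true, true⟩, ⟨false, false⟩, ⟨false, false⟩, ⟨false, false⟩, ⟨false, true⟩, ⟨true, false⟩, ⟨false, false⟩, ⟨false, false⟩⟩,
   ⟨⟨false, false⟩, ⟨false, true⟩, ⟨false, false⟩, ⟨false, false⟩, ⟨false, false⟩, ⟨true, false⟩, ⟨true, true⟩, ⟨false, false⟩, ⟨false, false⟩⟩,
   ⟨⟨false, false⟩, ⟨true, false⟩, ⟨false, false⟩, ⟨false, false⟩, ⟨false, false⟩, ⟨false, true⟩, ⟨true, true⟩, ⟨false, false⟩, ⟨false, false⟩⟩,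
   ⟨⟨false, false⟩, ⟨true, true⟩, ⟨false, false⟩, ⟨false, false⟩, ⟨false, false⟩, ⟨true, true⟩, ⟨true, true⟩, ⟨false, false⟩, ⟨false, false⟩⟩,
   ⟨⟨false, false⟩, ⟨false, false⟩, ⟨false, true⟩, ⟨false, true⟩, ⟨false, false⟩, ⟨false, false⟩, ⟨false, false⟩, ⟨false, true⟩, ⟨false, false⟩⟩,
   ⟨⟨false, false⟩, ⟨false, false⟩, ⟨true, true⟩, ⟨false, true⟩, ⟨false, false⟩, ⟨false, false⟩, ⟨false, false⟩, ⟨true, false⟩, ⟨false, false⟩⟩,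
   ⟨⟨false, false⟩, ⟨false, false⟩, ⟨true, false⟩, ⟨false, true⟩, ⟨false, false⟩, ⟨false, false⟩, ⟨false, false⟩, ⟨true, true⟩, ⟨false, false⟩⟩,
   ⟨⟨false, false⟩, ⟨false, false⟩, ⟨true, true⟩, ⟨true, false⟩, ⟨false, false⟩, ⟨false, false⟩, ⟨false, false⟩, ⟨false, true⟩, ⟨false, false⟩⟩,
   ⟨⟨false, false⟩, ⟨false, false⟩, ⟨true, false⟩, ⟨true, false⟩, ⟨false, false⟩, ⟨false, false⟩, ⟨false, false⟩, ⟨true, false⟩, ⟨false, false⟩⟩,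
   ⟨⟨false, false⟩, ⟨false, false⟩, ⟨false, true⟩, ⟨true, false⟩, ⟨false, false⟩, ⟨false, false⟩, ⟨false, false⟩, ⟨true, true⟩, ⟨false, false⟩⟩,
   ⟨⟨false, false⟩, ⟨false, false⟩, ⟨true, false⟩, ⟨true, true⟩, ⟨false, false⟩, ⟨false, false⟩, ⟨false, false⟩, ⟨false, true⟩, ⟨false, false⟩⟩,
   ⟨⟨false, false⟩, ⟨false, false⟩, ⟨false, true⟩, ⟨true, true⟩, ⟨false, false⟩, ⟨false, false⟩, ⟨false, false⟩, ⟨true, false⟩, ⟨false, false⟩⟩,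
   ⟨⟨false, false⟩, ⟨false, false⟩, ⟨true, true⟩, ⟨true, true⟩, ⟨false, false⟩, ⟨false, false⟩, ⟨false, false⟩, ⟨true, true⟩, ⟨false, false⟩⟩,
   ⟨⟨false, true⟩, ⟨false, false⟩, ⟨false, false⟩, ⟨false, false⟩, ⟨false, true⟩, ⟨false, false⟩, ⟨false, false⟩, ⟨false, false⟩, ⟨false, true⟩⟩,
   ⟨⟨false, true⟩, ⟨false, false⟩, ⟨false, false⟩, ⟨false, false⟩, ⟨true, false⟩, ⟨false, false⟩, ⟨false, false⟩, ⟨false, false⟩, ⟨true, true⟩⟩,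
   ⟨⟨false, true⟩, ⟨false, false⟩, ⟨false, false⟩, ⟨false, false⟩, ⟨true, true⟩, ⟨false, false⟩, ⟨false, false⟩, ⟨false, false⟩, ⟨true, false⟩⟩,
   ⟨⟨true, false⟩, ⟨false, false⟩, ⟨false, false⟩, ⟨false, false⟩, ⟨false, true⟩, ⟨false, false⟩, ⟨false, false⟩, ⟨false, false⟩, ⟨true, true⟩⟩,
   ⟨⟨true, false⟩, ⟨false, false⟩, ⟨false, false⟩, ⟨false, false⟩, ⟨true, false⟩, ⟨false, false⟩, ⟨false, false⟩, ⟨false, false⟩, ⟨true, false⟩⟩,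
   ⟨⟨true, false⟩, ⟨false, false⟩, ⟨false, false⟩, ⟨false, false⟩, ⟨true, true⟩, ⟨false, false⟩, ⟨false, false⟩, ⟨false, false⟩, ⟨false, true⟩⟩,
   ⟨⟨true, true⟩, ⟨false, false⟩, ⟨false, false⟩, ⟨false, false⟩, ⟨false, true⟩, ⟨false, false⟩, ⟨false, false⟩, ⟨false, false⟩, ⟨true, false⟩⟩,
   ⟨⟨true, true⟩, ⟨false, false⟩, ⟨false, false⟩, ⟨false, false⟩, ⟨true, false⟩, ⟨false, false⟩, ⟨false, false⟩, ⟨false, false⟩, ⟨false, true⟩⟩,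
   ⟨⟨true, true⟩, ⟨false, false⟩, ⟨false, false⟩, ⟨false, false⟩, ⟨true, true⟩, ⟨false, false⟩, ⟨false, false⟩, ⟨false, false⟩, ⟨true, true⟩⟩]

/-- the centre of `SU(3,2)` -/
def litsZ : List (M3 F4) :=
  [⟨⟨false, true⟩, ⟨false, false⟩, ⟨false, false⟩, ⟨false, false⟩, ⟨false, true⟩, ⟨false, false⟩, ⟨false, false⟩, ⟨false, false⟩, ⟨false, true⟩⟩,
   ⟨⟨true, false⟩, ⟨false, false⟩, ⟨false, false⟩, ⟨false, false⟩, ⟨true, false⟩, ⟨false, false⟩, ⟨false, false⟩, ⟨false, false⟩, ⟨true, false⟩⟩,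
   ⟨⟨true, true⟩, ⟨false, false⟩, ⟨false, false⟩, ⟨false, false⟩, ⟨true, true⟩, ⟨false, false⟩, ⟨false, false⟩, ⟨false, false⟩, ⟨true, true⟩⟩]

/-- generators of a quaternion complement -/
def wq : M3 F4 := ⟨⟨false, true⟩, ⟨true, false⟩, ⟨true, true⟩, ⟨false, true⟩, ⟨false, true⟩, ⟨false, true⟩, ⟨false, true⟩, ⟨true, true⟩, ⟨true, false⟩⟩
def bq : M3 F4 := ⟨⟨false, true⟩, ⟨true, false⟩, ⟨true, false⟩, ⟨false, true⟩, ⟨false, true⟩, ⟨true, true⟩, ⟨true, false⟩, ⟨false, true⟩, ⟨true, false⟩⟩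

theorem litsU_length : litsU.length = 216 := by decide +kernel
theorem litsP_length : litsP.length = 27 := by decide +kernel
theorem litsZ_length : litsZ.length = 3 := by decide +kernel

set_option maxRecDepth 100000 in
theorem litsU_nodup : litsU.Nodup := by decide +kernel

theorem litsP_nodup : litsP.Nodup := by decide +kernel

theorem litsZ_nodup : litsZ.Nodup := by decide +kernel

set_option maxRecDepth 100000 in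
theorem litsU_spec : ∀ m ∈ litsU, det3 m = 1 ∧ unit2 m := by decide +kernel

set_option maxRecDepth 100000 in
theorem litsU_complete : ∀ a d g : F4, a * a ^ 2 + d * d ^ 2 + g * g ^ 2 = 1 →
    ∀ b e h : F4, (b * b ^ 2 + e * e ^ 2 + h * h ^ 2 = 1 ∧ a * b ^ 2 + d * e ^ 2 + g * h ^ 2 = 0) →
    ∀ c f i : F4, (unit2 ⟨a, b, c, d, e, f, g, h, i⟩ ∧ det3 (⟨a, b, c, d, e, f, g, h, i⟩ : M3 F4) = 1) →
    (⟨a, b, c, d, e, f, g, h, i⟩ : M3 F4) ∈ litsU := by decide +kernel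

end Cfsg.Agent.Lib.helper17.U32
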